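import Mathlib.GroupTheory.GroupAction.Quotient
import Mathlib.GroupTheory.PGroup
import Mathlib.Data.Nat.Choose.Dvd
import Cfsg.Agent.Lib.Coprime.Generation
import Cfsg.Agent.Lib.PGroup.Basic
import Cfsg.Agent.Lib.PGroup.ClassTwo
import Cfsg.Agent.Lib.Core.Basic

/-!
Generic tools for the theorem of Klinger and Mason: elementary abelian subgroups, product formulas,
class two calculus inside an ambient group, involutions acting on odd order elements, and free actions
of cyclic groups of prime square order.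
-/

set_option autoImplicit false

namespace Cfsg.Lib.Sig.KlingerMason

open Subgroup
open scoped commutatorElement

variable {G : Type*} [Group G]

theorem comm_of_elem {p : ℕ} {E : Subgroup G} (hE : Cfsg.IsElementaryAbelian p E) {x y : G}
    (hx : x ∈ E) (hy : y ∈ E) : x * y = y * x :=
  congrArg Subtype.val (hE.1.1.comm (⟨x, hx⟩ : E) ⟨y, hy⟩)

theorem le_centralizer_self {p : ℕ} {E : Subgroup G} (hE : Cfsg.IsElementaryAbelian p E) :
    E ≤ centralizer (E : Set G) :=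
  fun _ hx => mem_centralizer_iff.2 fun _ hy => comm_of_elem hE hy hx

theorem mem_centralizer_sup {A B : Subgroup G} {g : G} (hA : g ∈ centralizer (A : Set G))
    (hB : g ∈ centralizer (B : Set G)) : g ∈ centralizer ((A ⊔ B : Subgroup G) : Set G) := by
  rw [← zpowers_le, le_centralizer_iff]
  exact sup_le (le_centralizer_iff.1 (zpowers_le.2 hA)) (le_centralizer_iff.1 (zpowers_le.2 hB))

theorem mem_centralizer_zpowers {x g : G} (h : g * x = x * g) :
    g ∈ centralizer ((zpowers x : Subgroup G) : Set G) := by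
  rw [← zpowers_le, le_centralizer_iff, zpowers_le]
  exact mem_centralizer_iff.2 fun z hz => by
    obtain ⟨i, rfl⟩ := mem_zpowers_iff.1 hz
    exact ((show Commute x g from h.symm).zpow_right i).symm.eq

theorem mem_centralizer_singleton {u x : G} :
    x ∈ centralizer ({u} : Set G) ↔ u * x * u⁻¹ = x := by
  rw [mem_centralizer_singleton_iff, mul_inv_eq_iff_eq_mul, eq_comm]

theorem conj_eq_self_iff {u x : G} : u * x * u⁻¹ = x ↔ u * x = x * u := mul_inv_eq_iff_eq_mul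

/-- Adjoining a commuting element of order `q` to an elementary abelian subgroup. -/
theorem elem_adjoin {q : ℕ} [hq : Fact q.Prime] {E : Subgroup G} (hE : Cfsg.IsElementaryAbelian q E)
    {y : G} (hy : y ^ q = 1) (hc : y ∈ centralizer (E : Set G)) (hyE : y ∉ E) :
    Cfsg.IsElementaryAbelian q (E ⊔ zpowers y) ∧ Nat.card ↥(E ⊔ zpowers y) = Nat.card E * q := by
  haveI := hE.1
  have hz : zpowers y ≤ centralizer (E : Set G) := zpowers_le.2 hc
  have hcom : ⁅E, zpowers y⁆ = ⊥ := by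
    rw [commutator_eq_bot_iff_le_centralizer]
    exact le_centralizer_iff.1 hz
  have hmem : ∀ x ∈ E ⊔ zpowers y, ∃ e ∈ E, ∃ i : ℤ, e * y ^ i = x := by
    intro x hx
    obtain ⟨a, ha, b, hb, rfl⟩ := (Core.mem_sup_of_commute hcom).1 hx
    obtain ⟨i, rfl⟩ := mem_zpowers_iff.1 hb
    exact ⟨a, ha, i, rfl⟩
  have hye : ∀ e ∈ E, ∀ i : ℤ, Commute (y ^ i) e := fun e he i =>
    (show Commute y e from (mem_centralizer_iff.1 hc e he).symm).zpow_left i
  refine ⟨⟨⟨⟨?_⟩⟩, ?_⟩, ?_⟩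
  · rintro ⟨x, hx⟩ ⟨z, hz⟩
    obtain ⟨a, ha, i, rfl⟩ := hmem x hx
    obtain ⟨b, hb, j, rfl⟩ := hmem z hz
    refine Subtype.ext (Commute.eq (Commute.mul_left (Commute.mul_right ?_ ?_) (Commute.mul_right ?_ ?_)))
    · exact comm_of_elem hE ha hb
    · exact (hye a ha j).symm
    · exact hye b hb i
    · exact (Commute.refl y).zpow_zpow i j
  · intro x hx
    obtain ⟨a, ha, i, rfl⟩ := hmem x hx
    rw [(hye a ha i).symm.mul_pow, hE.2 a ha, one_mul, ← zpow_natCast, ← zpow_mul, mul_comm,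
      zpow_mul, zpow_natCast, hy, one_zpow]
  · have ho : orderOf y = q := orderOf_eq_prime hy fun h => hyE (h ▸ E.one_mem)
    have hd : Disjoint E (zpowers y) := by
      rw [disjoint_def]
      intro x hxE hx
      obtain ⟨i, rfl⟩ := mem_zpowers_iff.1 hx
      by_contra h1
      refine hyE ?_
      have hcop : Int.gcd i q = 1 := by
        rcases (Nat.dvd_prime hq.out).1 (dvd_trans (Int.gcd_dvd_natAbs_right i q) (Int.natAbs_natCast q).dvd) with h | h
        · exact h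
        · exfalso
          refine h1 ?_
          obtain ⟨j, hj⟩ : (q : ℤ) ∣ i := h ▸ Int.gcd_dvd_left i q
          rw [hj, zpow_mul, zpow_natCast, hy, one_zpow]
      have e : y = (y ^ i) ^ Int.gcdA i q := by
        conv_lhs => rw [← zpow_one y, ← Int.natCast_one, ← hcop, Int.gcd_eq_gcd_ab, zpow_add,
          zpow_mul, zpow_mul, zpow_natCast, hy, one_zpow, mul_one]
      rw [e]
      exact E.zpow_mem hxE _
    rw [Coprime.card_sup_of_disjoint (hz.trans (centralizer_le_normalizer _)) hd,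
      Nat.card_zpowers, ho]

theorem two_mul_card_le_of_lt [Finite G] {H K : Subgroup G} (h : H < K) :
    2 * Nat.card H ≤ Nat.card K := by
  obtain ⟨c, hc⟩ := card_dvd_of_le h.le
  have hne : Nat.card H ≠ Nat.card K := fun e => h.ne (eq_of_le_of_card_ge h.le e.ge)
  rw [hc] at hne ⊢
  have h0 : 0 < Nat.card K := Nat.card_pos
  rw [hc] at h0
  have : c ≠ 0 := fun e => by simp [e] at h0
  have : c ≠ 1 := fun e => by simp [e] at hne
  rw [mul_comm 2]
  exact Nat.mul_le_mul_left _ (by omega)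

theorem card_sup_mul_inf [Finite G] {A B : Subgroup G} (hB : B ≤ normalizer (A : Set G)) :
    Nat.card ↥(A ⊔ B) * Nat.card ↥(A ⊓ B) = Nat.card A * Nat.card B := by
  have h1 := Cfsg.Lib.Core.card_mul_relIndex (le_sup_left : A ≤ A ⊔ B)
  have h2 := Cfsg.Lib.Core.card_mul_relIndex (inf_le_right : A ⊓ B ≤ B)
  haveI : (A.subgroupOf (A ⊔ B)).Normal :=
    (normal_subgroupOf_iff_le_normalizer le_sup_left).2 (sup_le le_normalizer hB)
  have h3 : A.relIndex (A ⊔ B) = A.relIndex B := by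
    rw [← relIndex_subgroupOf (le_sup_right : B ≤ A ⊔ B), relIndex, ← relIndex_top_right,
      ← subgroupOf_self (H := A ⊔ B), subgroupOf_sup le_sup_left le_sup_right,
      sup_comm (A.subgroupOf (A ⊔ B)), relIndex_sup_right]
  rw [inf_relIndex_right] at h2
  rw [← h1, h3, mul_assoc, mul_comm (A.relIndex B), h2]

/-! ### Class two inside an ambient group -/

/-- All commutators of elements of `L` are central in `L`. -/
def ClassTwo (L : Subgroup G) : Prop := ∀ a ∈ L, ∀ b ∈ L, ∀ c ∈ L, c * ⁅a, b⁆ = ⁅a, b⁆ * c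

namespace ClassTwo

variable {L : Subgroup G} (hL : ClassTwo L)

include hL

theorem commutator_le_center : commutator L ≤ center L := by
  rw [_root_.commutator_def, commutator_le]
  intro a _ b _
  rw [mem_center_iff]
  intro c
  refine Subtype.ext ?_
  simpa [commutatorElement_def] using hL a a.2 b b.2 c c.2

theorem mul_left {a b c : G} (ha : a ∈ L) (hb : b ∈ L) (hc : c ∈ L) :
    ⁅a * b, c⁆ = ⁅a, c⁆ * ⁅b, c⁆ :=
  congrArg Subtype.val (PGroup.commutatorElement_mul_left hL.commutator_le_center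
    (⟨a, ha⟩ : L) ⟨b, hb⟩ ⟨c, hc⟩)

theorem mul_right {a b c : G} (ha : a ∈ L) (hb : b ∈ L) (hc : c ∈ L) :
    ⁅a, b * c⁆ = ⁅a, b⁆ * ⁅a, c⁆ :=
  congrArg Subtype.val (PGroup.commutatorElement_mul_right hL.commutator_le_center
    (⟨a, ha⟩ : L) ⟨b, hb⟩ ⟨c, hc⟩)

theorem inv_left {a c : G} (ha : a ∈ L) (hc : c ∈ L) : ⁅a⁻¹, c⁆ = ⁅a, c⁆⁻¹ := by
  have h := hL.mul_left (L.inv_mem ha) ha hc
  rw [inv_mul_cancel, commutatorElement_one_left] at h
  exact eq_inv_of_mul_eq_one_left h.symm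

theorem inv_right {a c : G} (ha : a ∈ L) (hc : c ∈ L) : ⁅a, c⁻¹⁆ = ⁅a, c⁆⁻¹ := by
  have h := hL.mul_right ha (L.inv_mem hc) hc
  rw [inv_mul_cancel, commutatorElement_one_right] at h
  exact eq_inv_of_mul_eq_one_left h.symm

theorem pow_left {a c : G} (ha : a ∈ L) (hc : c ∈ L) (n : ℕ) : ⁅a ^ n, c⁆ = ⁅a, c⁆ ^ n :=
  congrArg Subtype.val (PGroup.commutatorElement_pow_left hL.commutator_le_center
    (⟨a, ha⟩ : L) ⟨c, hc⟩ n)

theorem pow_right {a c : G} (ha : a ∈ L) (hc : c ∈ L) (n : ℕ) : ⁅a, c ^ n⁆ = ⁅a, c⁆ ^ n :=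
  congrArg Subtype.val (PGroup.commutatorElement_pow_right hL.commutator_le_center
    (⟨a, ha⟩ : L) ⟨c, hc⟩ n)

theorem mul_pow {a b : G} (ha : a ∈ L) (hb : b ∈ L) (n : ℕ) :
    (a * b) ^ n = a ^ n * b ^ n * ⁅b, a⁆ ^ n.choose 2 :=
  congrArg Subtype.val (PGroup.mul_pow_of_class_two hL.commutator_le_center
    (⟨a, ha⟩ : L) ⟨b, hb⟩ n)

/-- In class two the elements of order dividing an odd prime form a subgroup. -/
theorem exists_omega {p : ℕ} [hp : Fact p.Prime] (hp2 : p ≠ 2) :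
    ∃ W : Subgroup G, ∀ x, x ∈ W ↔ x ∈ L ∧ x ^ p = 1 := by
  refine ⟨{ carrier := {x | x ∈ L ∧ x ^ p = 1}
            one_mem' := ⟨one_mem _, one_pow _⟩
            inv_mem' := fun {x} hx => ⟨inv_mem hx.1, by rw [inv_pow, hx.2, inv_one]⟩
            mul_mem' := ?_ }, fun x => Iff.rfl⟩
  rintro a b ⟨ha, ha'⟩ ⟨hb, hb'⟩
  refine ⟨mul_mem ha hb, ?_⟩
  obtain ⟨m, hm⟩ : p ∣ p.choose 2 :=
    hp.out.dvd_choose_self two_ne_zero (lt_of_le_of_ne hp.out.two_le (Ne.symm hp2))
  rw [hL.mul_pow ha hb, ha', hb', hm, pow_mul, ← hL.pow_right hb ha, ha', commutatorElement_one_right,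
    one_pow, one_mul, one_mul]

end ClassTwo

theorem conj_commutatorElement' (g a b : G) :
    g * ⁅a, b⁆ * g⁻¹ = ⁅g * a * g⁻¹, g * b * g⁻¹⁆ := by
  simp only [commutatorElement_def]
  group

/-! ### Involutions and odd order elements -/

theorem eq_one_of_eq_inv {x : G} {N : ℕ} (hN : Odd N) (hx : x ^ N = 1) (h : x = x⁻¹) : x = 1 := by
  obtain ⟨m, rfl⟩ := hN
  have h2 : x ^ 2 = 1 := by rw [pow_two]; nth_rewrite 1 [h]; exact inv_mul_cancel x
  rwa [pow_succ, pow_mul, h2, one_pow, one_mul] at hx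

/-- Write `l` as (fixed by `u`) times (inverted by `u`). -/
theorem exists_fixed_mul_inverted {u l : G} (hu : u * u = 1) {N : ℕ} (hN : Odd N)
    (hm : (l⁻¹ * (u * l * u⁻¹)) ^ N = 1) :
    ∃ i ∈ zpowers (l⁻¹ * (u * l * u⁻¹)), u * i * u⁻¹ = i⁻¹ ∧ u * (l * i⁻¹) * u⁻¹ = l * i⁻¹ := by
  obtain ⟨h, rfl⟩ := hN
  set m := l⁻¹ * (u * l * u⁻¹) with hmdef
  have hinv : u⁻¹ = u := inv_eq_of_mul_eq_one_right hu
  have hum : u * m * u⁻¹ = m⁻¹ := by
    rw [hmdef, hinv]
    calc u * (l⁻¹ * (u * l * u)) * u = u * l⁻¹ * u * l * (u * u) := by group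
      _ = (l⁻¹ * (u * l * u))⁻¹ := by
        rw [hu, mul_one, mul_inv_rev, mul_inv_rev, mul_inv_rev, inv_inv, hinv]
        group
  have hupow : ∀ n : ℕ, u * m ^ n * u⁻¹ = (m ^ n)⁻¹ := fun n => by rw [← conj_pow, hum, inv_pow]
  refine ⟨(m ^ (h + 1))⁻¹, inv_mem (pow_mem (mem_zpowers _) _), ?_, ?_⟩
  · rw [inv_inv]
    calc u * (m ^ (h + 1))⁻¹ * u⁻¹ = (u * m ^ (h + 1) * u⁻¹)⁻¹ := by group
      _ = _ := by rw [hupow, inv_inv]
  · rw [inv_inv]
    have e : u * l * u⁻¹ = l * m := by rw [hmdef, mul_inv_cancel_left]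
    have e2 : m * (m ^ (h + 1))⁻¹ = m ^ (h + 1) := by
      rw [mul_inv_eq_iff_eq_mul, ← pow_add, show h + 1 + (h + 1) = (2 * h + 1) + 1 by ring,
        pow_succ m (2 * h + 1), hm, one_mul]
    calc u * (l * m ^ (h + 1)) * u⁻¹ = (u * l * u⁻¹) * (u * m ^ (h + 1) * u⁻¹) := by group
      _ = l * m ^ (h + 1) := by rw [e, hupow, mul_assoc, e2]

/-- A free action of a cyclic group of order `q ^ 2` off the fixed points of its subgroup of order `q`. -/
theorem card_modEq_sq [Finite G] {q : ℕ} [hq : Fact q.Prime] {R : Subgroup G} {c : G}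
    (hc : c ∈ normalizer (R : Set G)) (hc2 : c ^ (q * q) = 1) :
    Nat.card R ≡ Nat.card ↥(R ⊓ centralizer ({c ^ q} : Set G)) [MOD q * q] := by
  classical
  let S : Set G := {x | x ∈ R ∧ x ∉ centralizer ({c ^ q} : Set G)}
  have hS : ∀ g ∈ zpowers c, ∀ x ∈ S, g * x * g⁻¹ ∈ S := by
    rintro g hg x ⟨hxR, hxc⟩
    refine ⟨(mem_normalizer_iff.1 ((zpowers_le.2 hc) hg) x).1 hxR, fun h => hxc ?_⟩
    have hgc : Commute g (c ^ q) := by
      obtain ⟨i, rfl⟩ := mem_zpowers_iff.1 hg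
      exact ((Commute.refl c).zpow_left i).pow_right q
    rw [mem_centralizer_singleton_iff] at h ⊢
    calc x * c ^ q = g⁻¹ * ((g * x * g⁻¹) * (g * c ^ q * g⁻¹)) * g := by group
      _ = g⁻¹ * ((g * x * g⁻¹) * c ^ q) * g := by rw [hgc.eq, mul_inv_cancel_right]
      _ = g⁻¹ * (c ^ q * (g * x * g⁻¹)) * g := by rw [h]
      _ = (g⁻¹ * c ^ q * g) * x := by group
      _ = c ^ q * x := by rw [mul_assoc g⁻¹, ← hgc.eq, inv_mul_cancel_left]
  letI : MulAction ↥(zpowers c) S :=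
    { smul := fun g x => ⟨g * x * (g : G)⁻¹, hS g g.2 x x.2⟩
      one_smul := fun x => Subtype.ext (by show ((1 : ↥(zpowers c)) : G) * x * _ = _; simp)
      mul_smul := fun g g' x => Subtype.ext (by
        show ((g * g' : ↥(zpowers c)) : G) * x * _ = g * (g' * x * (g' : G)⁻¹) * (g : G)⁻¹
        simp [mul_assoc]) }
  have hfree : ∀ x : S, MulAction.stabilizer ↥(zpowers c) x = ⊥ := by
    intro x
    rw [eq_bot_iff]
    rintro ⟨g, hg⟩ hgx
    rw [mem_bot, Subtype.ext_iff]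
    obtain ⟨i, rfl⟩ := mem_zpowers_iff.1 hg
    have hix : c ^ i * x * (c ^ i)⁻¹ = (x : G) := congrArg Subtype.val hgx
    have hcx : Commute (c ^ i) (x : G) := conj_eq_self_iff.1 hix
    have hgcd : Commute (c ^ (Int.gcd i (q * q : ℕ) : ℤ)) (x : G) := by
      rw [Int.gcd_eq_gcd_ab, zpow_add, zpow_mul, zpow_mul, zpow_natCast, hc2, one_zpow, mul_one]
      exact hcx.zpow_left _
    obtain ⟨d, hd, hd'⟩ := (Nat.dvd_prime_pow hq.out).1 (show Int.gcd i (q * q : ℕ) ∣ q ^ 2 by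
      rw [pow_two]; exact dvd_trans (Int.gcd_dvd_natAbs_right i _) (Int.natAbs_natCast _).dvd)
    show c ^ i = 1
    rcases Nat.lt_or_ge d 2 with hlt | hge
    · exfalso
      refine x.2.2 (mem_centralizer_singleton_iff.2 ?_)
      have : Commute (c ^ q) (x : G) := by
        rw [zpow_natCast, hd'] at hgcd
        interval_cases d
        · rw [pow_zero, pow_one] at hgcd
          exact hgcd.pow_left q
        · rwa [pow_one] at hgcd
      exact this.symm.eq
    · obtain rfl : d = 2 := by omega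
      obtain ⟨j, hj⟩ := Int.gcd_dvd_left i (q * q : ℕ)
      rw [hj, zpow_mul, zpow_natCast, hd', pow_two q, hc2, one_zpow]
  have hord : q * q ∣ Nat.card S ∨ c ^ q = 1 := by
    by_cases h : c ^ q = 1
    · exact Or.inr h
    left
    have ho : orderOf c = q * q := by
      rw [← pow_two]
      refine orderOf_eq_prime_pow (n := 1) (by rwa [pow_one]) ?_
      rw [show 1 + 1 = 2 from rfl, pow_two]; exact hc2
    haveI := Fintype.ofFinite (Quotient (MulAction.orbitRel ↥(zpowers c) S))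
    rw [Nat.card_congr (MulAction.selfEquivSigmaOrbits ↥(zpowers c) S), Nat.card_sigma]
    refine Finset.dvd_sum fun Ω _ => dvd_of_eq ?_
    rw [Nat.card_coe_set_eq, ← MulAction.index_stabilizer, hfree, index_bot, Nat.card_zpowers, ho]
  have hsplit : Nat.card R = Nat.card ↥(R ⊓ centralizer ({c ^ q} : Set G)) + Nat.card S := by
    rw [← Nat.card_sum]
    refine Nat.card_congr ((Equiv.sumCompl (fun x : R => (x : G) ∈ centralizer ({c ^ q} : Set G))).symm.trans
      (Equiv.sumCongr ⟨fun x => ⟨x.1, x.1.2, x.2⟩, fun x => ⟨⟨x.1, x.2.1⟩, x.2.2⟩, fun x => rfl, fun x => rfl⟩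
        ⟨fun x => ⟨x.1, x.1.2, x.2⟩, fun x => ⟨⟨x.1, x.2.1⟩, x.2.2⟩, fun x => rfl, fun x => rfl⟩))
  rw [hsplit]
  rcases hord with h | h
  · have := (Nat.modEq_zero_iff_dvd.2 h).add_left (Nat.card ↥(R ⊓ centralizer ({c ^ q} : Set G)))
    simpa using this
  · have : IsEmpty S := ⟨fun x => x.2.2 (mem_centralizer_singleton_iff.2 (by simp [h]))⟩
    rw [Nat.card_of_isEmpty (α := S), add_zero]

end Cfsg.Lib.Sig.KlingerMason
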