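import Cfsg.Prelude.Def_Local
import Cfsg.Prelude.Def_LocalEven
import Cfsg.Agent.S1349
import Cfsg.Agent.Lib.Local.Basic
import Cfsg.Agent.Lib.Local.Uniq.Tools
import Cfsg.Agent.Lib.PGroup.OddOmega
import Cfsg.Agent.Lib.Sig.Transitivity
import Cfsg.Agent.Lib.Sig.KlingerMason.Tools

/-!
Klinger–Mason: the dihedral bound, an involution centralizing an elementary abelian `p`-subgroup of
largest two-local rank, and the absence of a four-group centralizing one.
-/

set_option autoImplicit false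

namespace Cfsg.Lib.Sig.KlingerMason

open Subgroup
open scoped commutatorElement

/-- A finite group of characteristic `p` and of characteristic two, with two-local `p`-rank `k ≥ 3`. -/
structure Hyp (G : Type*) [Group G] (p k : ℕ) : Prop where
  odd : p ≠ 2
  charp : ∀ F : Subgroup G, IsPGroup p F → F ≠ ⊥ → Cfsg.Lib.Local.IsCharP p (normalizer (F : Set G))
  char2 : ∀ T : Subgroup G, IsPGroup 2 T → T ≠ ⊥ → Cfsg.Lib.Local.IsCharP 2 (normalizer (T : Set G))
  three_le : 3 ≤ k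
  le_max : ∀ E : Subgroup G, Cfsg.IsElementaryAbelian p E → ∀ T : Subgroup G, IsPGroup 2 T → T ≠ ⊥ →
    E ≤ normalizer (T : Set G) → Nat.card E ≤ p ^ k

variable {G : Type*} [Group G]

theorem mem_zpowers_involution {u x : G} (hu : u * u = 1) (hx : x ∈ zpowers u) : x = 1 ∨ x = u := by
  obtain ⟨i, rfl⟩ := mem_zpowers_iff.1 hx
  rcases Int.even_or_odd i with ⟨r, rfl⟩ | ⟨r, rfl⟩
  · exact Or.inl (by rw [zpow_add, ← (Commute.refl u).mul_zpow, hu, one_zpow])
  · exact Or.inr (by rw [zpow_add, two_mul, zpow_add, ← (Commute.refl u).mul_zpow, hu, one_zpow,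
      one_mul, zpow_one])

theorem orderOf_involution {u : G} (hu : u * u = 1) (hu1 : u ≠ 1) : orderOf u = 2 :=
  orderOf_eq_prime (by rw [pow_two, hu]) hu1

theorem isPGroup_zpowers_involution {u : G} (hu : u * u = 1) (hu1 : u ≠ 1) :
    IsPGroup 2 (zpowers u) :=
  IsPGroup.of_card (n := 1) (by rw [Nat.card_zpowers, orderOf_involution hu hu1, pow_one])

theorem normalizer_zpowers_involution {u : G} (hu : u * u = 1) (hu1 : u ≠ 1) :
    normalizer (zpowers u : Set G) = centralizer ({u} : Set G) := by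
  refine le_antisymm (fun x hx => ?_) ?_
  · rw [mem_centralizer_singleton_iff]
    have h := (mem_normalizer_iff.1 hx u).1 (mem_zpowers u)
    rcases mem_zpowers_involution hu h with e | e
    · exact absurd (mul_inv_eq_one.1 e) (by simpa using hu1)
    · exact conj_eq_self_iff.1 e
  · rw [zpowers_eq_closure]
    refine le_trans (le_of_eq ?_) (centralizer_le_normalizer _)
    exact (centralizer_closure _).symm

/-- `O_p(N(F)) ∩ C(F)`. -/
def QF (p : ℕ) (F : Subgroup G) : Subgroup G :=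
  Cfsg.pCoreOf p (normalizer (F : Set G)) ⊓ centralizer (F : Set G)

/-- The subgroup of involutions of the centre of `Q`. -/
theorem exists_involutions (Q : Subgroup G) :
    ∃ Z : Subgroup G, ∀ z, z ∈ Z ↔ z ∈ Q ∧ z ∈ centralizer (Q : Set G) ∧ z * z = 1 :=
  ⟨{ carrier := {z | z ∈ Q ∧ z ∈ centralizer (Q : Set G) ∧ z * z = 1}
     one_mem' := ⟨one_mem _, one_mem _, one_mul _⟩
     inv_mem' := fun {z} hz => ⟨inv_mem hz.1, inv_mem hz.2.1, by rw [← mul_inv_rev, hz.2.2, inv_one]⟩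
     mul_mem' := fun {a b} ha hb => ⟨mul_mem ha.1 hb.1, mul_mem ha.2.1 hb.2.1, by
       have h : b * a = a * b := mem_centralizer_iff.1 ha.2.1 b hb.1
       calc a * b * (a * b) = a * (b * a) * b := by group
         _ = (a * a) * (b * b) := by rw [h]; group
         _ = 1 := by rw [ha.2.2, hb.2.2, one_mul]⟩ }, fun _ => Iff.rfl⟩

section

variable [Finite G] {p k : ℕ} [hp : Fact p.Prime]

theorem Hyp.odd_p (h : Hyp G p k) : Odd p := hp.out.odd_of_ne_two h.odd

theorem Hyp.two_coprime (h : Hyp G p k) : Nat.Coprime 2 p :=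
  (Nat.coprime_primes Nat.prime_two hp.out).2 (Ne.symm h.odd)

theorem Hyp.coprime_orderOf (h : Hyp G p k) {u : G} (hu : u * u = 1) : (orderOf u).Coprime p :=
  h.two_coprime.coprime_dvd_left (orderOf_dvd_of_pow_eq_one (by rw [pow_two, hu]))

theorem Hyp.coprime_card (h : Hyp G p k) {T P : Subgroup G} (hT : IsPGroup 2 T) (hP : IsPGroup p P) :
    (Nat.card T).Coprime (Nat.card P) := by
  obtain ⟨a, ha⟩ := hT.exists_card_eq
  obtain ⟨b, hb⟩ := hP.exists_card_eq
  rw [ha, hb]
  exact h.two_coprime.pow _ _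

theorem Hyp.le_max_inv (h : Hyp G p k) {E : Subgroup G} (hE : Cfsg.IsElementaryAbelian p E) {u : G}
    (hu : u * u = 1) (hu1 : u ≠ 1) (hEu : E ≤ centralizer ({u} : Set G)) : Nat.card E ≤ p ^ k :=
  h.le_max E hE (zpowers u) (isPGroup_zpowers_involution hu hu1) (fun e => hu1 (zpowers_eq_bot.1 e))
    (hEu.trans (normalizer_zpowers_involution hu hu1).ge)

theorem le_QF {F : Subgroup G} (hF : Cfsg.IsElementaryAbelian p F) : F ≤ QF p F :=
  le_inf (Cfsg.Lib.Local.le_pCoreOf le_normalizer le_rfl (PGroup.isPGroup_of_isElementaryAbelian hF))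
    (le_centralizer_self hF)

theorem QF_isPGroup (F : Subgroup G) : IsPGroup p (QF p F) :=
  (Cfsg.Lib.Local.pCoreOf_isPGroup _).to_le inf_le_left

theorem normalizer_le_normalizer_QF (F : Subgroup G) :
    normalizer (F : Set G) ≤ normalizer (QF p F : Set G) :=
  Cfsg.Lib.Local.le_normalizer_inf
    (le_normalizer.trans (Cfsg.Lib.Local.normalizer_le_normalizer_pCoreOf _))
    (Cfsg.Lib.Local.normalizer_le_normalizer_centralizer F)

theorem centralizer_le_normalizer_QF (F : Subgroup G) :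
    centralizer (F : Set G) ≤ normalizer (QF p F : Set G) :=
  (centralizer_le_normalizer _).trans (normalizer_le_normalizer_QF F)

/-- A `p'`-element of `C(F)` centralizing `O_p(N(F)) ∩ C(F)` is trivial. -/
theorem Hyp.eq_one_of_centralizes_QF (h : Hyp G p k) {F : Subgroup G} (hF : IsPGroup p F)
    (hF1 : F ≠ ⊥) {g : G} (hgF : g ∈ centralizer (F : Set G)) (hg : (orderOf g).Coprime p)
    (hfix : ∀ q ∈ QF p F, g * q = q * g) : g = 1 := by
  set N := normalizer (F : Set G)
  set V := Cfsg.pCoreOf p N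
  have hgN : g ∈ N := centralizer_le_normalizer _ hgF
  have hV : IsPGroup p V := Cfsg.Lib.Local.pCoreOf_isPGroup _
  have hNV : N ≤ normalizer (V : Set G) := Cfsg.Lib.Local.le_normalizer_pCoreOf N
  have hAB : ⁅V, zpowers g⁆ = ⊥ := by
    refine Coprime.commutator_eq_bot_of_AxB (p := p) V F (zpowers g) hV hF
      (by rwa [Nat.card_zpowers]) (le_normalizer.trans hNV) ((zpowers_le.2 hgN).trans hNV)
      (zpowers_le.2 hgF) ?_
    intro x hx
    rw [zpowers_eq_closure, centralizer_closure]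
    exact mem_centralizer_singleton_iff.2 (hfix x hx).symm
  rw [commutator_comm, commutator_eq_bot_iff_le_centralizer] at hAB
  exact Cfsg.Lib.Local.orderOf_eq_one_of_coprime_mem hV
    (h.charp F hF hF1 ⟨hgN, hAB (mem_zpowers g)⟩) hg

/-- Thompson's dihedral configuration inside `O_p(N(F)) ∩ C(F)`. -/
theorem Hyp.dihedral_elements (h : Hyp G p k) {A F : Subgroup G} {m : ℕ}
    (hA : Cfsg.IsElementaryAbelian 2 A) (hAc : Nat.card A = 2 ^ m) (hF : Cfsg.IsElementaryAbelian p F)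
    (hF1 : F ≠ ⊥) (hAF : A ≤ centralizer (F : Set G)) :
    ∃ a x : Fin m → G, (∀ i, a i ∈ A ∧ a i ≠ 1 ∧ x i ∈ centralizer (F : Set G) ∧ x i ≠ 1 ∧
      x i ^ p = 1 ∧ a i * x i * (a i)⁻¹ = (x i)⁻¹) ∧
      ∀ i j, i ≠ j → Commute (a i) (x j) ∧ Commute (x i) (x j) := by
  have hL : IsPGroup p (QF p F) := QF_isPGroup F
  have hodd : Odd (Nat.card (QF p F)) := by
    obtain ⟨n, hn⟩ := hL.exists_card_eq
    rw [hn]; exact h.odd_p.pow
  have hfaith : A ⊓ centralizer (QF p F : Set G) = ⊥ := by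
    rw [eq_bot_iff]
    rintro a ⟨ha, hac⟩
    exact mem_bot.2 (h.eq_one_of_centralizes_QF (PGroup.isPGroup_of_isElementaryAbelian hF) hF1
      (hAF ha) (h.coprime_orderOf (by rw [← pow_two]; exact hA.2 a ha))
      fun q hq => (mem_centralizer_iff.1 hac q hq).symm)
  obtain ⟨a, l, hal, -, hcomm⟩ := Cfsg.Agent.S1349.dihedral_config m (QF p F) A hL.isNilpotent
    hodd hA hAc (hAF.trans (centralizer_le_normalizer_QF F)) hfaith
  have hex : ∀ i, ∃ n : ℕ, l i ^ n ≠ 1 ∧ (l i ^ n) ^ p = 1 := by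
    intro i
    obtain ⟨-, -, hlL, hl1, -⟩ := hal i
    obtain ⟨e, he⟩ := hL ⟨l i, hlL⟩
    have he' : l i ^ p ^ e = 1 := congrArg Subtype.val he
    classical
    have hex : ∃ e, l i ^ p ^ e = 1 := ⟨e, he'⟩
    have hpos : Nat.find hex ≠ 0 := fun h0 => hl1 (by simpa [h0] using Nat.find_spec hex)
    obtain ⟨f, hf⟩ := Nat.exists_eq_succ_of_ne_zero hpos
    refine ⟨p ^ f, fun e1 => Nat.find_min hex (by omega) e1, ?_⟩
    rw [← pow_mul, ← pow_succ, show f + 1 = Nat.find hex by omega]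
    exact Nat.find_spec hex
  choose n hn1 hnp using hex
  refine ⟨a, fun i => l i ^ n i, fun i => ?_, fun i j hij => ?_⟩
  · obtain ⟨h1, h2, h3, -, h5⟩ := hal i
    exact ⟨h1, h2, (inf_le_right : QF p F ≤ _) (pow_mem h3 _), hn1 i, hnp i,
      by rw [← conj_pow, h5, inv_pow]⟩
  · exact ⟨(hcomm i j hij).1.pow_right _, (hcomm i j hij).2.pow_pow _ _⟩

theorem Hyp.not_mem_of_inverted (h : Hyp G p k) {a x : G} (hxp : x ^ p = 1) (hx1 : x ≠ 1)
    (hinv : a * x * a⁻¹ = x⁻¹) (hc : Commute a x) : False :=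
  hx1 (eq_one_of_eq_inv h.odd_p hxp ((conj_eq_self_iff.2 hc.eq).symm.trans hinv))

/-- The dihedral bound: `j + m ≤ k + 1`. -/
theorem Hyp.dihedral_bound (h : Hyp G p k) {A F : Subgroup G} {m j : ℕ} (hm : 1 ≤ m)
    (hA : Cfsg.IsElementaryAbelian 2 A) (hAc : Nat.card A = 2 ^ m) (hF : Cfsg.IsElementaryAbelian p F)
    (hFc : Nat.card F = p ^ j) (hF1 : F ≠ ⊥) (hAF : A ≤ centralizer (F : Set G)) :
    j + m ≤ k + 1 := by
  obtain ⟨a, x, hax, hcomm⟩ := h.dihedral_elements hA hAc hF hF1 hAF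
  classical
  let i0 : Fin m := ⟨0, hm⟩
  have key : ∀ s : Finset (Fin m), ∃ U : Subgroup G, Cfsg.IsElementaryAbelian p U ∧
      Nat.card U = p ^ (j + s.card) ∧ ∀ i, i ∉ s →
        a i ∈ centralizer (U : Set G) ∧ x i ∈ centralizer (U : Set G) := by
    intro s
    induction s using Finset.induction_on with
    | empty => exact ⟨F, hF, by simpa using hFc, fun i _ => ⟨hAF (hax i).1, (hax i).2.2.1⟩⟩
    | insert i s his ih =>
      obtain ⟨U, hU, hUc, hUi⟩ := ih
      obtain ⟨-, -, -, hx1, hxp, hinv⟩ := hax i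
      have hxU : x i ∉ U := fun hm' => h.not_mem_of_inverted hxp hx1 hinv
        (mem_centralizer_iff.1 (hUi i his).1 _ hm').symm
      obtain ⟨hE, hc⟩ := elem_adjoin hU hxp (hUi i his).2 hxU
      refine ⟨_, hE, ?_, fun l hl => ?_⟩
      · rw [hc, hUc, Finset.card_insert_of_notMem his, ← add_assoc, pow_succ]
      · rw [Finset.mem_insert, not_or] at hl
        exact ⟨mem_centralizer_sup (hUi l hl.2).1 (mem_centralizer_zpowers (hcomm l i hl.1).1.eq),
          mem_centralizer_sup (hUi l hl.2).2 (mem_centralizer_zpowers (hcomm l i hl.1).2.eq)⟩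
  obtain ⟨U, hU, hUc, hUi⟩ := key (Finset.univ.erase i0)
  obtain ⟨ha, ha1, -⟩ := hax i0
  have hle := h.le_max_inv hU (u := a i0) (by rw [← pow_two]; exact hA.2 _ ha) ha1 fun y hy =>
    mem_centralizer_singleton_iff.2 (mem_centralizer_iff.1 (hUi i0 (by simp)).1 y hy)
  rw [hUc, Nat.pow_le_pow_iff_right hp.out.one_lt, Finset.card_erase_of_mem (Finset.mem_univ _),
    Finset.card_univ, Fintype.card_fin] at hle
  omega

theorem card_cocyclic {B H : Subgroup G} (hB : Cfsg.IsElementaryAbelian p B) (hBc : Nat.card B = p ^ k)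
    (hH : H ∈ Coprime.cocyclic B) (hne : H ≠ B) : Nat.card H = p ^ (k - 1) := by
  have h1 := card_le_mul_of_cocyclic hB hH
  obtain ⟨i, hi⟩ := (PGroup.isPGroup_of_isElementaryAbelian
    (PGroup.isElementaryAbelian_of_le hB hH.1)).exists_card_eq
  have h2 : Nat.card H < Nat.card B :=
    lt_of_le_of_ne (card_le_of_le hH.1) fun e => hne (eq_of_le_of_card_ge hH.1 e.ge)
  rw [hBc, hi, ← pow_succ', Nat.pow_le_pow_iff_right hp.out.one_lt] at h1
  rw [hBc, hi, Nat.pow_lt_pow_iff_right hp.out.one_lt] at h2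
  rw [hi, show i = k - 1 by omega]

theorem ne_bot_of_card {H : Subgroup G} {i : ℕ} (hi : 1 ≤ i) (hH : Nat.card H = p ^ i) : H ≠ ⊥ := by
  rintro rfl
  rw [card_bot] at hH
  exact (Nat.one_lt_pow (by omega) hp.out.one_lt).ne hH

/-- A fixed-point-free `2`-group yields two commuting involutions centralizing a hyperplane. -/
theorem Hyp.exists_moved (h : Hyp G p k) {E T : Subgroup G} (hE : Cfsg.IsElementaryAbelian p E)
    (hEc : Nat.card E = p ^ k) (hT : IsPGroup 2 T) (hT1 : T ≠ ⊥) (hET : E ≤ normalizer (T : Set G))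
    (hfpf : T ⊓ centralizer (E : Set G) = ⊥) :
    ∃ (H : Subgroup G) (z z' : G), H ≤ E ∧ Nat.card H = p ^ (k - 1) ∧ z ∈ T ∧ z' ∈ T ∧
      z * z = 1 ∧ z' * z' = 1 ∧ z ≠ 1 ∧ z' ≠ 1 ∧ z' ≠ z ∧ z * z' = z' * z ∧
      z ∈ centralizer (H : Set G) ∧ z' ∈ centralizer (H : Set G) := by
  haveI := hE.1
  have hgen := Coprime.le_iSup_centralizer_cocyclic T hET
    (h.coprime_card hT (PGroup.isPGroup_of_isElementaryAbelian hE)).symm
  obtain ⟨H, hH, hne⟩ : ∃ H ∈ Coprime.cocyclic E, T ⊓ centralizer (H : Set G) ≠ ⊥ := by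
    by_contra! hc
    exact hT1 (le_bot_iff.1 (hgen.trans (iSup₂_le fun H hH => (hc H hH).le)))
  have hHE : H ≠ E := fun e => hne (e ▸ hfpf)
  set Q := T ⊓ centralizer (H : Set G) with hQ
  have hEH : E ≤ normalizer (H : Set G) :=
    ((le_centralizer_self hE).trans (centralizer_le hH.1)).trans (centralizer_le_normalizer _)
  have hEQ : E ≤ normalizer (Q : Set G) := Coprime.le_normalizer_inf_centralizer hET hEH
  obtain ⟨Z, hZ⟩ := exists_involutions Q
  obtain ⟨z, hzQ, hz2, hz1, hzc⟩ := Cfsg.Lib.Local.Uniq.exists_central (q := 2)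
    (hT.to_le (inf_le_left : Q ≤ T)) le_rfl le_normalizer hne
  rw [pow_two] at hz2
  obtain ⟨e, he, hez⟩ : ∃ e ∈ E, e * z * e⁻¹ ≠ z := by
    by_contra! hc
    refine hz1 (mem_bot.1 (hfpf ▸ ⟨hzQ.1, mem_centralizer_iff.2 fun e he => ?_⟩))
    exact conj_eq_self_iff.1 (hc e he)
  have hz'Q : e * z * e⁻¹ ∈ Q := (mem_normalizer_iff.1 (hEQ he) z).1 hzQ
  refine ⟨H, z, e * z * e⁻¹, hH.1, card_cocyclic hE hEc hH hHE, hzQ.1, hz'Q.1, hz2, ?_, hz1, ?_,
    hez, (mem_centralizer_iff.1 hzc _ hz'Q).symm, hzQ.2, hz'Q.2⟩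
  · calc e * z * e⁻¹ * (e * z * e⁻¹) = e * (z * z) * e⁻¹ := by group
      _ = 1 := by rw [hz2, mul_one, mul_inv_cancel]
  · intro e1
    exact hz1 (by simpa using conj_eq_one_iff.1 e1)

theorem elem_four {z z' : G} (hz : z * z = 1) (hz' : z' * z' = 1) (hz1 : z ≠ 1) (hz'1 : z' ≠ 1)
    (hne : z' ≠ z) (hc : z * z' = z' * z) :
    Cfsg.IsElementaryAbelian 2 (zpowers z ⊔ zpowers z') ∧
      Nat.card ↥(zpowers z ⊔ zpowers z') = 2 ^ 2 := by
  have hE : Cfsg.IsElementaryAbelian 2 (zpowers z) :=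
    Cfsg.Lib.Local.Uniq.elementary_zpowers (by rw [pow_two, hz])
  have hnot : z' ∉ zpowers z := fun hm => (mem_zpowers_involution hz hm).elim hz'1 hne
  obtain ⟨h1, h2⟩ := elem_adjoin hE (y := z') (by rw [pow_two, hz'])
    (mem_centralizer_zpowers hc.symm) hnot
  exact ⟨h1, by rw [h2, Nat.card_zpowers, orderOf_involution hz hz1]; rfl⟩

/-- Some involution centralizes an elementary abelian subgroup of order `p ^ k`. -/
theorem Hyp.exists_pair (h : Hyp G p k) {E T : Subgroup G} (hE : Cfsg.IsElementaryAbelian p E)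
    (hEc : Nat.card E = p ^ k) (hT : IsPGroup 2 T) (hT1 : T ≠ ⊥) (hET : E ≤ normalizer (T : Set G)) :
    ∃ (u : G) (B : Subgroup G), u * u = 1 ∧ u ≠ 1 ∧ Cfsg.IsElementaryAbelian p B ∧
      Nat.card B = p ^ k ∧ B ≤ centralizer ({u} : Set G) := by
  by_cases hfix : T ⊓ centralizer (E : Set G) = ⊥
  · obtain ⟨H, z, z', hHE, hHc, -, -, hz, hz', hz1, hz'1, hne, hzz, hzH, hz'H⟩ :=
      h.exists_moved hE hEc hT hT1 hET hfix
    obtain ⟨hA, hAc⟩ := elem_four hz hz' hz1 hz'1 hne hzz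
    have hH := PGroup.isElementaryAbelian_of_le hE hHE
    have hH1 : H ≠ ⊥ := ne_bot_of_card (by have := h.three_le; omega) hHc
    have hAH : zpowers z ⊔ zpowers z' ≤ centralizer (H : Set G) :=
      sup_le (zpowers_le.2 hzH) (zpowers_le.2 hz'H)
    obtain ⟨a, x, hax, hcomm⟩ := h.dihedral_elements hA hAc hH hH1 hAH
    obtain ⟨-, -, hxH, hx1, hxp, hinv⟩ := hax 0
    obtain ⟨ha, ha1, -⟩ := hax 1
    have hxn : x 0 ∉ H := fun hm => h.not_mem_of_inverted hxp hx1 hinv
      (mem_centralizer_iff.1 (hAH (hax 0).1) _ hm).symm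
    obtain ⟨hB, hBc⟩ := elem_adjoin hH hxp hxH hxn
    refine ⟨a 1, _, by rw [← pow_two]; exact hA.2 _ ha, ha1, hB, ?_, ?_⟩
    · rw [hBc, hHc, ← pow_succ]
      congr 1
      have := h.three_le
      omega
    · exact sup_le (fun y hy => mem_centralizer_singleton_iff.2 (mem_centralizer_iff.1 (hAH ha) y hy))
        (zpowers_le.2 (mem_centralizer_singleton_iff.2 ((hcomm 1 0 (by decide)).1.eq.symm)))
  · obtain ⟨z, hzQ, hz2, hz1, -⟩ := Cfsg.Lib.Local.Uniq.exists_central (q := 2)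
      (hT.to_le (inf_le_left : T ⊓ centralizer (E : Set G) ≤ T)) le_rfl le_normalizer hfix
    exact ⟨z, E, by rw [← pow_two, hz2], hz1, hE, hEc, fun e he =>
      mem_centralizer_singleton_iff.2 (mem_centralizer_iff.1 hzQ.2 e he)⟩

/-- No four-group centralizes an elementary abelian subgroup of order `p ^ k`. -/
theorem Hyp.no_four (h : Hyp G p k) {B : Subgroup G} (hB : Cfsg.IsElementaryAbelian p B)
    (hBc : Nat.card B = p ^ k) {u v : G} (hu : u * u = 1) (hv : v * v = 1) (hu1 : u ≠ 1) (hv1 : v ≠ 1)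
    (hne : v ≠ u) (huv : u * v = v * u) (huB : B ≤ centralizer ({u} : Set G))
    (hvB : B ≤ centralizer ({v} : Set G)) : False := by
  obtain ⟨hA, hAc⟩ := elem_four hu hv hu1 hv1 hne huv
  set V := zpowers u ⊔ zpowers v with hVdef
  have hVB : V ≤ centralizer (B : Set G) := sup_le
    (zpowers_le.2 (mem_centralizer_iff.2 fun b hb => mem_centralizer_singleton_iff.1 (huB hb)))
    (zpowers_le.2 (mem_centralizer_iff.2 fun b hb => mem_centralizer_singleton_iff.1 (hvB hb)))
  have hBp := PGroup.isPGroup_of_isElementaryAbelian hB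
  have hVp : IsPGroup 2 V := IsPGroup.of_card hAc
  obtain ⟨H0, hH0, -⟩ := Sylow.exists_subgroup_card_pow_prime_le p
    (show p ^ (k - 1) ∣ Nat.card B by rw [hBc]; exact pow_dvd_pow _ (Nat.sub_le _ _))
    (⊥ : Subgroup B) (by rw [card_bot, pow_zero]) (Nat.zero_le _)
  set H := H0.map B.subtype
  have hHB : H ≤ B := map_subtype_le _
  have hHc : Nat.card H = p ^ (k - 1) := by rw [Cfsg.Lib.Core.card_map_subtype, hH0]
  have hH1 : H ≠ ⊥ := ne_bot_of_card (by have := h.three_le; omega) hHc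
  set Q := QF p H with hQdef
  have hQp : IsPGroup p Q := QF_isPGroup H
  have hBH : B ≤ centralizer (H : Set G) := (le_centralizer_self hB).trans (centralizer_le hHB)
  have hVH : V ≤ centralizer (H : Set G) := hVB.trans (centralizer_le hHB)
  have hBQ : B ≤ normalizer (Q : Set G) := hBH.trans (centralizer_le_normalizer_QF H)
  have hVQ : V ≤ normalizer (Q : Set G) := hVH.trans (centralizer_le_normalizer_QF H)
  haveI := hA.1
  have hnc : ¬ IsCyclic V := by
    intro hc
    obtain ⟨g, hg⟩ := IsCyclic.exists_generator (α := V)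
    have h2 : orderOf g ∣ 2 := orderOf_dvd_of_pow_eq_one (Subtype.ext (hA.2 g g.2))
    rw [orderOf_eq_card_of_forall_mem_zpowers hg, hAc] at h2
    norm_num at h2
  have hgen := Coprime.le_iSup_centralizer_of_not_isCyclic (A := V) (G := Q) hnc hVQ
    (h.coprime_card hVp hQp)
  have hall : V ≤ centralizer (Q : Set G) := by
    rw [le_centralizer_iff]
    refine hgen.trans (iSup_le fun a => ?_)
    obtain ⟨a, ha, ha1⟩ := a
    set R := Q ⊓ centralizer ({a} : Set G) with hR
    have hnorm : ∀ K : Subgroup G, K ≤ normalizer (Q : Set G) → (∀ y ∈ K, y * a = a * y) →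
        K ≤ normalizer (R : Set G) := fun K hKQ hKa => Cfsg.Lib.Local.le_normalizer_inf hKQ
      (le_trans (fun y hy => mem_centralizer_singleton_iff.2 (hKa y hy)) le_normalizer)
    have hBR : B ≤ normalizer (R : Set G) :=
      hnorm B hBQ fun y hy => mem_centralizer_iff.1 (hVB ha) y hy
    have hVR : V ≤ normalizer (R : Set G) := hnorm V hVQ fun y hy => comm_of_elem hA hy ha
    have hRp : IsPGroup p R := hQp.to_le inf_le_left
    have hcent : V ≤ centralizer ((R ⊓ centralizer (B : Set G) : Subgroup G) : Set G) := by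
      refine PGroup.le_centralizer_of_centralizes_omega h.odd V _ (hRp.to_le inf_le_left)
        (Cfsg.Lib.Local.le_normalizer_inf hVR (le_trans hVB le_normalizer))
        (h.coprime_card hVp (hRp.to_le inf_le_left)) ?_
      rintro x ⟨hxR, hxB⟩ hxp y hy
      refine (mem_centralizer_iff.1 (hVB hy) x ?_).symm
      by_contra hxn
      obtain ⟨hE, hEc⟩ := elem_adjoin hB hxp hxB hxn
      have hle := h.le_max_inv hE (u := a) (by rw [← pow_two]; exact hA.2 a ha) ha1
        (sup_le (fun b hb => mem_centralizer_singleton_iff.2 (mem_centralizer_iff.1 (hVB ha) b hb))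
          (zpowers_le.2 hxR.2))
      rw [hEc, hBc, ← pow_succ, Nat.pow_le_pow_iff_right hp.out.one_lt] at hle
      omega
    have := Coprime.commutator_eq_bot_of_AxB (p := p) R B V hRp hBp
      (by rw [hAc]; exact h.two_coprime.pow_left _) hBR hVR hVB (le_centralizer_iff.1 hcent)
    exact commutator_eq_bot_iff_le_centralizer.1 this
  exact hu1 (h.eq_one_of_centralizes_QF (hBp.to_le hHB) hH1 (hVH (mem_sup_left (mem_zpowers u)))
    (h.coprime_orderOf hu) fun q hq => (mem_centralizer_iff.1 (hall (mem_sup_left (mem_zpowers u))) q hq).symm)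

end

end Cfsg.Lib.Sig.KlingerMason
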