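import Cfsg.Agent.Lib.Sig.KlingerMason.TwoSide

/-!
Klinger–Mason: the configuration attached to a pencil of two good hyperplanes when `p = 3`.
-/

set_option autoImplicit false

namespace Cfsg.Lib.Sig.KlingerMason

open Subgroup
open scoped commutatorElement

/-- Two commuting quaternion pairs above an involution, centralizing a subgroup `F` of index `p ^ 2`
in `B`, each moved by an element of `B` fixing the other. -/
structure Pencil (G : Type*) [Group G] (p k : ℕ) where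
  u : G
  B : Subgroup G
  F : Subgroup G
  b₁ : G
  b₂ : G
  x₁ : G
  y₁ : G
  x₂ : G
  y₂ : G
  pair : IsPair p k u B
  F_le : F ≤ B
  F_card : Nat.card F = p ^ (k - 2)
  b₁_mem : b₁ ∈ B
  b₂_mem : b₂ ∈ B
  x₁_mem : x₁ ∈ TT u ⊓ centralizer (F : Set G)
  y₁_mem : y₁ ∈ TT u ⊓ centralizer (F : Set G)
  x₂_mem : x₂ ∈ TT u ⊓ centralizer (F : Set G)
  y₂_mem : y₂ ∈ TT u ⊓ centralizer (F : Set G)
  x₁_sq : x₁ * x₁ = u
  y₁_sq : y₁ * y₁ = u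
  x₂_sq : x₂ * x₂ = u
  y₂_sq : y₂ * y₂ = u
  comm₁ : ⁅x₁, y₁⁆ = u
  comm₂ : ⁅x₂, y₂⁆ = u
  y₁_eq : y₁ = b₁ * x₁ * b₁⁻¹
  y₂_eq : y₂ = b₂ * x₂ * b₂⁻¹
  xx : Commute x₁ x₂
  xy : Commute x₁ y₂
  yx : Commute y₁ x₂
  yy : Commute y₁ y₂
  bx₁ : Commute b₂ x₁
  by₁ : Commute b₂ y₁
  bx₂ : Commute b₁ x₂
  by₂ : Commute b₁ y₂

variable {G : Type*} [Group G] [Finite G] {p k : ℕ} [hp : Fact p.Prime] {u : G} {B : Subgroup G}

namespace IsPair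

theorem mem_ZC_of_single (P : IsPair p k u B) (h : Hyp G p k) {H : Subgroup G} (hH : IsGood p k u B H)
    {b : G} (hb : b ∈ B) (hbH : b ∉ H) {w : G} (hw : w ∈ WW u B H)
    (hwb : b * w * b⁻¹ * w⁻¹ ∈ ZC u B) : w ∈ ZC u B := by
  let S : Subgroup G :=
    { carrier := {g | g ∈ B ∧ g * w * g⁻¹ * w⁻¹ ∈ ZC u B}
      one_mem' := ⟨B.one_mem, by simp⟩
      mul_mem' := by
        rintro g g' ⟨hg, hg1⟩ ⟨hg', hg'1⟩
        refine ⟨mul_mem hg hg', ?_⟩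
        have e : g * g' * w * (g * g')⁻¹ * w⁻¹ =
            g * (g' * w * g'⁻¹ * w⁻¹) * g⁻¹ * (g * w * g⁻¹ * w⁻¹) := by group
        rw [e]
        refine mul_mem ?_ hg1
        rw [mem_centralizer_iff.1 (P.ZC_fixed h hg'1) g hg, mul_inv_cancel_right]
        exact hg'1
      inv_mem' := by
        rintro g ⟨hg, hg1⟩
        refine ⟨inv_mem hg, ?_⟩
        have e : g⁻¹ * w * g⁻¹⁻¹ * w⁻¹ = g⁻¹ * (g * w * g⁻¹ * w⁻¹)⁻¹ * g := by group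
        rw [e, ← mem_centralizer_iff.1 (P.ZC_fixed h (inv_mem hg1)) g⁻¹ (inv_mem hg) |>.symm,
          inv_mul_cancel_right]
        exact inv_mem hg1 }
  refine P.mem_ZC_of h hw.1 fun b' hb' => ?_
  have hle : B ≤ S := by
    rw [← P.sup_zpowers_eq h hH.le hH.card hb hbH]
    refine sup_le (fun g hg => ⟨hH.le hg, ?_⟩) (zpowers_le.2 ⟨hb, hwb⟩)
    rw [mem_centralizer_iff.1 hw.2 g hg, mul_inv_cancel_right, mul_inv_cancel]
    exact one_mem _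
  exact (hle hb').2

theorem exists_xy (P : IsPair p k u B) (h : Hyp G p k) {H : Subgroup G} (hH : IsGood p k u B H)
    {b : G} (hb : b ∈ B) (hbH : b ∉ H) :
    ∃ x ∈ WW u B H, x * x = u ∧ b * x * b⁻¹ * (b * x * b⁻¹) = u ∧ ⁅x, b * x * b⁻¹⁆ = u := by
  have hC := P.classTwo h
  have hb3 : b ^ 3 = 1 := P.eq_three h ▸ P.elem.2 b hb
  have hbW : ∀ x ∈ WW u B H, b * x * b⁻¹ ∈ WW u B H := fun x hx =>
    (mem_normalizer_iff.1 (P.B_le_normalizer_WW hH.le hb) x).1 hx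
  obtain ⟨x₀, hx₀, hx₀b⟩ : ∃ x ∈ WW u B H, ⁅x, b * x * b⁻¹⁆ = u := by
    by_contra! hne
    have h1 : ∀ x ∈ WW u B H, ⁅x, b * x * b⁻¹⁆ = 1 := fun x hx =>
      (P.comm_mem h hx.1 (hbW x hx).1).resolve_right (hne x hx)
    refine hH.big fun w hw => P.mem_ZC_of_single h hH hb hbH hw ?_
    have hbi : b⁻¹ * w * b ∈ WW u B H :=
      (mem_normalizer_iff''.1 (P.B_le_normalizer_WW hH.le hb) w).1 hw
    set e := b * w * b⁻¹ * (b⁻¹ * w * b)⁻¹ with he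
    have heW : e ∈ WW u B H := mul_mem (hbW w hw) (inv_mem hbi)
    have hec : e ∈ centralizer (WW u B H : Set G) := by
      refine mem_centralizer_iff.2 fun x hx => commutatorElement_eq_one_iff_mul_comm.1 ?_
      rw [he, hC.mul_right hx.1 (hbW w hw).1 (inv_mem hbi.1), hC.inv_right hx.1 hbi.1]
      have h2 := h1 (x * w) (mul_mem hx hw)
      rw [show b * (x * w) * b⁻¹ = b * x * b⁻¹ * (b * w * b⁻¹) by group,
        hC.mul_left hx.1 hw.1 (mul_mem (hbW x hx).1 (hbW w hw).1),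
        hC.mul_right hx.1 (hbW x hx).1 (hbW w hw).1, hC.mul_right hw.1 (hbW x hx).1 (hbW w hw).1,
        h1 x hx, h1 w hw, one_mul, mul_one] at h2
      have h3 : ⁅w, b * x * b⁻¹⁆ = ⁅x, b⁻¹ * w * b⁆ := by
        rw [P.comm_symm h (hbW x hx).1 hw.1]
        conv_rhs => rw [← P.comm_conj h hx.1 hbi.1 (P.fix_u hb)]
        congr 1
        group
      rw [← h3]
      rw [eq_inv_of_mul_eq_one_left h2]
      exact (mul_inv_eq_one.2 (inv_eq_of_mul_eq_one_right (P.comm_mul_self h hw.1 (hbW x hx).1)))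
    have hab := P.le_centralizer_of_abelian h (A := WW u B H ⊓ centralizer (WW u B H : Set G))
      (inf_le_left.trans (inf_le_left.trans P.CC_le)) (inf_le_right.trans (centralizer_le inf_le_left))
      (Cfsg.Lib.Local.le_normalizer_inf (P.B_le_normalizer_WW hH.le)
        ((P.B_le_normalizer_WW hH.le).trans (Cfsg.Lib.Local.normalizer_le_normalizer_centralizer _)))
    have hez : e ∈ ZC u B := P.fixed_le h ⟨heW.1, hab ⟨heW, hec⟩⟩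
    have hfix : ∀ z ∈ ZC u B, b * z * b⁻¹ = z := fun z hz =>
      conj_eq_self_iff.2 (mem_centralizer_iff.1 (P.ZC_fixed h hz) b hb)
    have e2 : b⁻¹ * w * b * w⁻¹ ∈ ZC u B := by
      have hbb : b * b = b⁻¹ := eq_inv_of_mul_eq_one_left (by rw [← pow_two, ← pow_succ, hb3])
      have : b * e * b⁻¹ = b⁻¹ * w * b * w⁻¹ := by
        rw [he]
        calc b * (b * w * b⁻¹ * (b⁻¹ * w * b)⁻¹) * b⁻¹ = (b * b) * w * (b * b)⁻¹ * w⁻¹ := by group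
          _ = _ := by rw [hbb, inv_inv]
      rw [← this, hfix e hez]; exact hez
    have e3 := inv_mem e2
    rw [show b * w * b⁻¹ * w⁻¹ = b * (b⁻¹ * w * b * w⁻¹)⁻¹ * b⁻¹ by group, hfix _ e3]
    exact e3
  set y₀ := b * x₀ * b⁻¹ with hy₀
  set w₀ := b * y₀ * b⁻¹ with hw₀
  have hy : y₀ ∈ WW u B H := hbW _ hx₀
  have hwW : w₀ ∈ WW u B H := hbW _ hy
  have hbw : b * w₀ * b⁻¹ = x₀ := by
    rw [hw₀, hy₀]
    calc b * (b * (b * x₀ * b⁻¹) * b⁻¹) * b⁻¹ = (b * b * b) * x₀ * (b * b * b)⁻¹ := by group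
      _ = x₀ := by rw [show b * b * b = 1 by rw [← pow_two, ← pow_succ, hb3]]; group
  have hyw : ⁅y₀, w₀⁆ = u := by rw [hw₀, hy₀, P.comm_conj h hx₀.1 hy.1 (P.fix_u hb), hx₀b]
  have hxw : ⁅x₀, w₀⁆ = u := by
    rw [← P.comm_symm h hx₀.1 hwW.1]
    calc ⁅w₀, x₀⁆ = ⁅b * y₀ * b⁻¹, b * w₀ * b⁻¹⁆ := by rw [hbw, ← hw₀]
      _ = u := by rw [P.comm_conj h hy.1 hwW.1 (P.fix_u hb), hyw]
  have hu : u⁻¹ = u := inv_eq_of_mul_eq_one_right P.sq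
  have hsq : (x₀⁻¹ * y₀) * (x₀⁻¹ * y₀) = u := by
    have hz := P.sq_mem_ZC h hx₀.1
    have hyy : y₀ * y₀ = x₀ * x₀ := by
      rw [hy₀]
      calc b * x₀ * b⁻¹ * (b * x₀ * b⁻¹) = b * (x₀ * x₀) * b⁻¹ := by group
        _ = x₀ * x₀ := conj_eq_self_iff.2 (mem_centralizer_iff.1 (P.ZC_fixed h hz) b hb)
    have hc : ⁅x₀⁻¹, y₀⁆ = u := by rw [hC.inv_left hx₀.1 hy.1, hx₀b, hu]
    have hcom : Commute y₀ (x₀ * x₀) := mem_centralizer_iff.1 hz.2 y₀ hy.1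
    calc x₀⁻¹ * y₀ * (x₀⁻¹ * y₀) = ⁅x₀⁻¹, y₀⁆ * (y₀ * (x₀ * x₀)⁻¹) * y₀ := by
          simp only [commutatorElement_def]; group
      _ = u * ((x₀ * x₀)⁻¹ * (y₀ * y₀)) := by rw [hc, hcom.inv_right.eq]; group
      _ = u := by rw [hyy, inv_mul_cancel, mul_one]
  have hconj : b * (x₀⁻¹ * y₀) * b⁻¹ = y₀⁻¹ * w₀ := by rw [hw₀, hy₀]; group
  refine ⟨x₀⁻¹ * y₀, mul_mem (inv_mem hx₀) hy, hsq, ?_, ?_⟩
  · calc b * (x₀⁻¹ * y₀) * b⁻¹ * (b * (x₀⁻¹ * y₀) * b⁻¹)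
        = b * ((x₀⁻¹ * y₀) * (x₀⁻¹ * y₀)) * b⁻¹ := by group
      _ = u := by rw [hsq, P.fix_u hb]
  · rw [hconj, hC.mul_left (inv_mem hx₀.1) hy.1 (mul_mem (inv_mem hy.1) hwW.1),
      hC.mul_right (inv_mem hx₀.1) (inv_mem hy.1) hwW.1, hC.mul_right hy.1 (inv_mem hy.1) hwW.1,
      hC.inv_left hx₀.1 (inv_mem hy.1), hC.inv_right hx₀.1 hy.1, hC.inv_left hx₀.1 hwW.1,
      hC.inv_right hy.1 hy.1, commutatorElement_self, hx₀b, hxw, hyw]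
    simp [hu, P.sq]

theorem exists_pencil (P : IsPair p k u B) (h : Hyp G p k) {z : G} (hz : z ∈ B) (hz1 : z ≠ 1) :
    ∃ D : Pencil G p k, D.u = u ∧ D.B = B ∧ ¬ Commute D.x₁ z := by
  obtain ⟨H, H', hH, hH', hzH, hne⟩ := P.exists_good_pair h hz hz1
  obtain ⟨b₁, hb₁, hb₁H⟩ := P.exists_not_mem hH.card hH'.card hne
  obtain ⟨b₂, hb₂, hb₂H⟩ := P.exists_not_mem hH'.card hH.card (Ne.symm hne)
  obtain ⟨x₁, hx₁, hx₁s, hy₁s, hc₁⟩ := P.exists_xy h hH (hH'.le hb₁) hb₁H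
  obtain ⟨x₂, hx₂, hx₂s, hy₂s, hc₂⟩ := P.exists_xy h hH' (hH.le hb₂) hb₂H
  have hy₁ : b₁ * x₁ * b₁⁻¹ ∈ WW u B H :=
    (mem_normalizer_iff.1 (P.B_le_normalizer_WW hH.le (hH'.le hb₁)) x₁).1 hx₁
  have hy₂ : b₂ * x₂ * b₂⁻¹ ∈ WW u B H' :=
    (mem_normalizer_iff.1 (P.B_le_normalizer_WW hH'.le (hH.le hb₂)) x₂).1 hx₂
  have hcom : ∀ x ∈ WW u B H, ∀ y ∈ WW u B H', Commute x y := fun x hx y hy =>
    mem_centralizer_iff.1 (P.WW_commute h hH.le hH.card hH'.le hH'.card hne hy) x hx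
  have hW : ∀ x ∈ WW u B H, x ∈ TT u ⊓ centralizer ((H ⊓ H' : Subgroup G) : Set G) :=
    fun x hx => ⟨P.CC_le hx.1, centralizer_le inf_le_left hx.2⟩
  have hW' : ∀ x ∈ WW u B H', x ∈ TT u ⊓ centralizer ((H ⊓ H' : Subgroup G) : Set G) :=
    fun x hx => ⟨P.CC_le hx.1, centralizer_le inf_le_right hx.2⟩
  refine ⟨⟨u, B, H ⊓ H', b₁, b₂, x₁, b₁ * x₁ * b₁⁻¹, x₂, b₂ * x₂ * b₂⁻¹, P, inf_le_left.trans hH.le,
    P.card_inf h hH.le hH.card hH'.le hH'.card hne, hH'.le hb₁, hH.le hb₂, hW _ hx₁, hW _ hy₁,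
    hW' _ hx₂, hW' _ hy₂, hx₁s, hy₁s, hx₂s, hy₂s, hc₁, hc₂, rfl, rfl,
    hcom _ hx₁ _ hx₂, hcom _ hx₁ _ hy₂, hcom _ hy₁ _ hx₂, hcom _ hy₁ _ hy₂,
    mem_centralizer_iff.1 hx₁.2 b₂ hb₂, mem_centralizer_iff.1 hy₁.2 b₂ hb₂,
    mem_centralizer_iff.1 hx₂.2 b₁ hb₁, mem_centralizer_iff.1 hy₂.2 b₁ hb₁⟩, rfl, rfl, fun hcx => P.ne ?_⟩
  have hx₁B : x₁ ∈ centralizer (B : Set G) := by
    rw [← P.sup_zpowers_eq h hH.le hH.card hz hzH]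
    exact mem_centralizer_sup hx₁.2 (mem_centralizer_zpowers hcx.eq)
  rw [← hc₁, conj_eq_self_iff.2 (mem_centralizer_iff.1 hx₁B b₁ (hH'.le hb₁)), commutatorElement_self]

end IsPair

end Cfsg.Lib.Sig.KlingerMason
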