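import Cfsg.Agent.Lib.Sig.KlingerMason.Pencil

/-!
Klinger–Mason: elements of `C(F)` inverted by `u` lie in `O_p(N(F))`, the subgroups of exponent `p` of
`Q = O_p(N(F)) ∩ C(F)` are abelian, `C_Q(u) = F`, and `Q` has class two.
-/

set_option autoImplicit false

namespace Cfsg.Lib.Sig.KlingerMason

open Subgroup
open scoped commutatorElement

variable {G : Type*} [Group G] [Finite G] {p k : ℕ} [hp : Fact p.Prime]

namespace Pencil

variable (D : Pencil G p k)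

theorem eq_conj_of_mem {g f : G} (hg : g ∈ centralizer (D.F : Set G)) (hf : f ∈ D.F) :
    g * f * g⁻¹ = f := conj_eq_self_iff.2 (mem_centralizer_iff.1 hg f hf).symm

/-- `Ω₁` of a critical subgroup. -/
theorem exists_detector (h : Hyp G p k) : ∃ L, D.Good L ∧ ∀ g ∈ centralizer (D.F : Set G),
    (orderOf g).Coprime p → (∀ l ∈ L, g * l = l * g) → g = 1 := by
  set Q := QF p D.F with hQ
  have hQp : IsPGroup p Q := QF_isPGroup D.F
  obtain ⟨C, hC, hC1, hC2, hC3⟩ := Cfsg.Agent.S0093.result (P := Q) hQp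
  haveI := hC
  set C' := C.map Q.subtype with hC'
  have hC'Q : C' ≤ Q := map_subtype_le _
  have hN : centralizer (D.F : Set G) ≤ normalizer (C' : Set G) :=
    (centralizer_le_normalizer_QF D.F).trans (Cfsg.Lib.Core.normalizer_le_normalizer_map_char C)
  have hcl : ClassTwo C' := by
    rintro _ ⟨a, ha, rfl⟩ _ ⟨b, hb, rfl⟩ _ ⟨c, hc, rfl⟩
    have h1 : ⁅a, b⁆ ∈ centralizer (C : Set Q) :=
      (hC2 (commutator_mem_commutator ha (mem_top b))).2
    simpa [commutatorElement_def] using congrArg Subtype.val (mem_centralizer_iff.1 h1 c hc)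
  obtain ⟨W, hW⟩ := hcl.exists_omega h.odd
  have hFC : D.F ≤ C' := fun f hf => by
    refine ⟨⟨f, le_QF D.F_elem hf⟩, hC3 (mem_centralizer_iff.2 fun c _ => Subtype.ext ?_), rfl⟩
    exact (mem_centralizer_iff.1 c.2.2 f hf).symm
  refine ⟨W, ⟨fun f hf => (hW f).2 ⟨hFC hf, D.F_elem.2 f hf⟩, fun x hx => hC'Q ((hW x).1 hx).1,
    fun x hx => ((hW x).1 hx).2,
    fun a ha b hb c hc => hcl a ((hW a).1 ha).1 b ((hW b).1 hb).1 c ((hW c).1 hc).1, ?_⟩, ?_⟩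
  · refine Cfsg.Lib.Core.le_normalizer_iff_conj_mem.2 fun g hg x hx => (hW _).2 ⟨?_, ?_⟩
    · exact (mem_normalizer_iff.1 (hN hg) x).1 ((hW x).1 hx).1
    · rw [conj_pow, ((hW x).1 hx).2, mul_one, mul_inv_cancel]
  · intro g hg hgo hfix
    have hC'p : IsPGroup p C' := hQp.to_le hC'Q
    have hgC : zpowers g ≤ centralizer (C' : Set G) :=
      PGroup.le_centralizer_of_centralizes_omega h.odd (zpowers g) C' hC'p
        ((zpowers_le.2 hg).trans hN) (Cfsg.Lib.Local.coprime_card_zpowers hC'p hgo) fun x hx hxp b hb => by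
          obtain ⟨i, rfl⟩ := mem_zpowers_iff.1 hb
          exact ((show Commute g x from hfix x ((hW x).2 ⟨hx, hxp⟩)).zpow_left i).eq
    refine h.eq_one_of_centralizes_QF D.F_isPGroup (D.F_ne h) hg hgo fun q hq => ?_
    set φ : MulAut Q := Q.normalizerMonoidHom ⟨g, centralizer_le_normalizer_QF D.F hg⟩ with hφ
    have h1 : φ = 1 := by
      refine Cfsg.Agent.S0121.result hQp C hC hC1 hC2 hC3 φ
        (hgo.coprime_dvd_left ((orderOf_map_dvd _ _).trans (orderOf_mk g _).dvd)) fun x hx => Subtype.ext ?_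
      exact conj_eq_self_iff.2 (mem_centralizer_iff.1 (hgC (mem_zpowers g)) x ⟨x, hx, rfl⟩).symm
    exact conj_eq_self_iff.1 (congrArg Subtype.val (DFunLike.congr_fun h1 (⟨q, hq⟩ : Q)) :)

theorem not_le_F (h : Hyp G p k) {L : Subgroup G}
    (hdet : ∀ g ∈ centralizer (D.F : Set G), (orderOf g).Coprime p → (∀ l ∈ L, g * l = l * g) → g = 1) :
    ¬ L ≤ D.F := fun hle => D.pair.ne (hdet D.u D.u_mem_centralizer (h.coprime_orderOf D.pair.sq)
      fun _ hl => (mem_centralizer_iff.1 D.u_mem_centralizer _ (hle hl)).symm)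

/-- Elements of order `p` of `C(F)` inverted by `u` lie in `O_p(N(F))`. -/
theorem key (h : Hyp G p k) {g : G} (hg : g ∈ centralizer (D.F : Set G)) (hgp : g ^ p = 1)
    (hgu : D.u * g * D.u⁻¹ = g⁻¹) : g ∈ QF p D.F := by
  obtain ⟨L, hL, hdet⟩ := D.exists_detector h
  have hFN : centralizer (D.F : Set G) ≤ normalizer (D.F : Set G) := centralizer_le_normalizer _
  set K := centralizer (D.F : Set G) ⊓ Cfsg.Lib.Local.chainStab L D.F with hK
  have hKp : IsPGroup p K := by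
    refine Cfsg.Lib.Local.isPGroup_of_forall_coprime fun x hx hxo => hdet x hx.1 hxo fun l hl => ?_
    have h1 : x ∈ centralizer (L : Set G) := by
      refine Cfsg.Lib.Local.mem_centralizer_of_two_step ((QF_isPGroup D.F).to_le hL.le_QF) (hL.norm hx.1) hxo
        (N := D.F) ?_ fun f hf => mem_centralizer_singleton_iff.2 (mem_centralizer_iff.1 hx.1 f hf)
      exact (Cfsg.Lib.Local.le_chainStab_iff.1 (zpowers_le.2 hx.2)).2
    exact (mem_centralizer_iff.1 h1 l hl).symm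
  have hKn : centralizer (D.F : Set G) ≤ normalizer (K : Set G) :=
    Cfsg.Lib.Local.le_normalizer_inf le_normalizer
      ((le_inf hL.norm hFN).trans (Cfsg.Lib.Local.normalizer_inf_le_normalizer_chainStab _ _))
  have hKP : K ≤ QF p D.F := by
    refine le_inf ((Cfsg.Lib.Local.le_pCoreOf inf_le_left hKn hKp).trans ?_) inf_le_left
    exact Cfsg.Lib.Local.le_pCoreOf ((Cfsg.Lib.Local.pCoreOf_le _).trans hFN)
      ((Cfsg.Lib.Local.normalizer_le_normalizer_centralizer _).trans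
        (Cfsg.Lib.Local.normalizer_le_normalizer_pCoreOf _)) (Cfsg.Lib.Local.pCoreOf_isPGroup _)
  have hu : ∀ x ∈ L, ∃ f ∈ D.F, D.u * x * D.u⁻¹ = x⁻¹ * f := by
    intro x hx
    obtain ⟨f, hf, i, hi, rfl, hiu⟩ := hL.split_u h hx
    refine ⟨f * f, mul_mem hf hf, ?_⟩
    calc D.u * (f * i) * D.u⁻¹ = (D.u * f * D.u⁻¹) * (D.u * i * D.u⁻¹) := by group
      _ = f * i⁻¹ := by rw [hiu, D.eq_conj_of_mem D.u_mem_centralizer hf]
      _ = i⁻¹ * f := ((show Commute f i from hL.commute_F hi hf).inv_right).eq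
      _ = (f * i)⁻¹ * (f * f) := by group
  have hsq : g * g ∈ K := by
    refine ⟨mul_mem hg hg, hFN (mul_mem hg hg), fun l hl => ?_⟩
    obtain ⟨f₁, hf₁, e1⟩ := hu _ (hL.conj_mem hg hl)
    obtain ⟨f₂, hf₂, e2⟩ := hu l hl
    have hgf : ∀ f ∈ D.F, g * f * g⁻¹ = f := fun f hf => D.eq_conj_of_mem hg hf
    have e3 : D.u * (g * l * g⁻¹) * D.u⁻¹ = g⁻¹ * (l⁻¹ * f₂) * g := by
      calc D.u * (g * l * g⁻¹) * D.u⁻¹ =
          (D.u * g * D.u⁻¹) * (D.u * l * D.u⁻¹) * (D.u * g * D.u⁻¹)⁻¹ := by group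
        _ = _ := by rw [hgu, e2, inv_inv]
    have e4 : g * ((g * l * g⁻¹)⁻¹ * f₁) * g⁻¹ = l⁻¹ * f₂ := by rw [← e1, e3]; group
    have e5 : g * g * l⁻¹ * (g * g)⁻¹ = l⁻¹ * (f₂ * f₁⁻¹) := by
      calc g * g * l⁻¹ * (g * g)⁻¹ =
          g * ((g * l * g⁻¹)⁻¹ * f₁) * g⁻¹ * (g * f₁ * g⁻¹)⁻¹ := by group
        _ = _ := by rw [e4, hgf f₁ hf₁, mul_assoc]
    have e6 : l * (g * g) * l⁻¹ * (g * g)⁻¹ = f₂ * f₁⁻¹ := by
      calc l * (g * g) * l⁻¹ * (g * g)⁻¹ = l * (g * g * l⁻¹ * (g * g)⁻¹) := by group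
        _ = _ := by rw [e5, mul_inv_cancel_left]
    rw [e6]
    exact mul_mem hf₂ (inv_mem hf₁)
  obtain ⟨m, hm⟩ := h.odd_p
  have : g = (g * g) ^ (m + 1) := by
    rw [← pow_two, ← pow_mul, show 2 * (m + 1) = p + 1 by omega, pow_succ, hgp, one_mul]
  rw [this]
  exact pow_mem (hKP hsq) _

/-- The companion of `v`. -/
def v₁ (v : G) : G := D.x₁ * v * D.x₁⁻¹

/-- The companion subgroup `F ⟨v, v₁⟩`. -/
def B₂ (v : G) : Subgroup G := D.F ⊔ zpowers v ⊔ zpowers (D.v₁ v)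

theorem pair_of_v (h : Hyp G p k) {L : Subgroup G} (hL : D.Good L) {v : G} (hv : v ∈ L) (hvF : v ∉ D.F)
    (hvu : D.u * v * D.u⁻¹ = v⁻¹) (hva : Commute D.a v) (hva' : Commute D.a' v) :
    IsPair p k D.a (D.B₂ v) ∧ D.B₂ v ≤ L ∧ D.a' * D.v₁ v * D.a'⁻¹ = (D.v₁ v)⁻¹ := by
  have hxi : D.x₁⁻¹ * D.a' * D.x₁ = D.a' * D.u := by
    have e1 : D.x₁ * (D.a' * D.u) * D.x₁⁻¹ = D.a' := by
      calc D.x₁ * (D.a' * D.u) * D.x₁⁻¹ = (D.x₁ * D.a' * D.x₁⁻¹) * (D.x₁ * D.u * D.x₁⁻¹) := by group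
        _ = D.a' * D.u * D.u := by
          rw [D.x₁_conj_a', conj_eq_self_iff.2 (D.commute_u D.x₁_mem.1).symm.eq]
        _ = D.a' := by rw [mul_assoc, D.pair.sq, mul_one]
    nth_rewrite 1 [← e1]
    group
  have hv₁L : D.v₁ v ∈ L := hL.conj_mem D.x₁_mem.2 hv
  have hv₁a : Commute D.a (D.v₁ v) := (D.x₁_a.symm.mul_right hva).mul_right D.x₁_a.symm.inv_right
  have hv₁a' : D.a' * D.v₁ v * D.a'⁻¹ = (D.v₁ v)⁻¹ := by
    calc D.a' * D.v₁ v * D.a'⁻¹ =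
        D.x₁ * ((D.x₁⁻¹ * D.a' * D.x₁) * v * (D.x₁⁻¹ * D.a' * D.x₁)⁻¹) * D.x₁⁻¹ := by
          rw [Pencil.v₁]; group
      _ = D.x₁ * (D.a' * (D.u * v * D.u⁻¹) * D.a'⁻¹) * D.x₁⁻¹ := by rw [hxi]; group
      _ = D.x₁ * (D.a' * v * D.a'⁻¹)⁻¹ * D.x₁⁻¹ := by rw [hvu]; group
      _ = _ := by rw [conj_eq_self_iff.2 hva'.eq, Pencil.v₁]; group
  have hvv₁ : Commute (D.v₁ v) v :=
    hL.sign h D.a'_mem_centralizer hv₁L hv hv₁a' (conj_eq_self_iff.2 hva'.eq)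
  obtain ⟨hE1, hE1c⟩ := elem_adjoin D.F_elem (hL.pow_eq v hv) (hL.le_QF hv).2 hvF
  have hv₁n : D.v₁ v ∉ D.F ⊔ zpowers v := by
    intro hm
    have hle : D.F ⊔ zpowers v ≤ centralizer ({D.a'} : Set G) := sup_le
      (fun f hf => mem_centralizer_singleton_iff.2 (mem_centralizer_iff.1 D.a'_mem_centralizer f hf))
      (zpowers_le.2 (mem_centralizer_singleton_iff.2 hva'.eq.symm))
    have hne : D.v₁ v ≠ 1 := fun e => hvF (by
      have : v = 1 := by simpa [Pencil.v₁] using conj_eq_one_iff.1 e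
      rw [this]; exact one_mem _)
    exact h.not_mem_of_inverted (hL.pow_eq _ hv₁L) hne hv₁a'
      (mem_centralizer_singleton_iff.1 (hle hm)).symm
  obtain ⟨hE2, hE2c⟩ := elem_adjoin hE1 (hL.pow_eq _ hv₁L)
    (mem_centralizer_sup (hL.le_QF hv₁L).2 (mem_centralizer_zpowers hvv₁.eq)) hv₁n
  refine ⟨⟨D.a_sq, D.a_ne, hE2, ?_, ?_⟩, sup_le (sup_le hL.F_le (zpowers_le.2 hv)) (zpowers_le.2 hv₁L), hv₁a'⟩
  · rw [B₂, hE2c, hE1c, D.F_card, mul_assoc, ← pow_two, ← pow_add,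
      show k - 2 + 2 = k by have := h.three_le; omega]
  · exact sup_le (sup_le
      (fun f hf => mem_centralizer_singleton_iff.2 (mem_centralizer_iff.1 D.a_mem_centralizer f hf))
      (zpowers_le.2 (mem_centralizer_singleton_iff.2 hva.eq.symm)))
      (zpowers_le.2 (mem_centralizer_singleton_iff.2 hv₁a.eq.symm))

theorem F_le_B₂ (v : G) : D.F ≤ D.B₂ v := le_sup_left.trans le_sup_left

/-- A good subgroup is abelian. -/
theorem Good.abelian {L : Subgroup G} {D : Pencil G p k} (h : Hyp G p k) (hL : D.Good L) :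
    L ≤ centralizer (L : Set G) := by
  by_cases hbig : L ≤ D.F
  · exact hbig.trans ((le_centralizer_self D.F_elem).trans (centralizer_le hbig))
  obtain ⟨v, hv, hvF, hvu, hva, hva'⟩ := hL.exists_v h hbig
  obtain ⟨hP, hB₂L, -⟩ := D.pair_of_v h hL hv hvF hvu hva hva'
  by_cases hall : ∀ e ∈ L, ∀ d ∈ L, D.a * e * D.a⁻¹ = e⁻¹ → D.a * d * D.a⁻¹ = d⁻¹ → Commute e d
  · have hinv : ∀ j ∈ L, D.a * j * D.a⁻¹ = j⁻¹ → j ∈ centralizer (L : Set G) := by
      intro j hj hja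
      refine mem_centralizer_iff.2 fun x hx => ?_
      obtain ⟨c, hc, i, hi, rfl, hca, hia⟩ := hL.split h D.a_mem_centralizer D.a_sq hx
      exact ((hL.sign h D.a_mem_centralizer hj hc hja hca).mul_right (hall j hj i hi hja hia)).eq.symm
    have hau : ∀ l ∈ L, D.a * (D.u * l * D.u⁻¹) * D.a⁻¹ = l → l ∈ centralizer (L : Set G) := by
      intro l hl hle
      obtain ⟨f, hf, j, hj, rfl, hju⟩ := hL.split_u h hl
      refine mul_mem (mem_centralizer_iff.2 fun x hx => (hL.commute_F hx hf).symm) (hinv j hj ?_)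
      have e1 : D.a * (D.u * (f * j) * D.u⁻¹) * D.a⁻¹ = f * (D.a * j⁻¹ * D.a⁻¹) := by
        calc D.a * (D.u * (f * j) * D.u⁻¹) * D.a⁻¹ =
            D.a * ((D.u * f * D.u⁻¹) * (D.u * j * D.u⁻¹)) * D.a⁻¹ := by group
          _ = (D.a * f * D.a⁻¹) * (D.a * j⁻¹ * D.a⁻¹) := by
            rw [hju, D.eq_conj_of_mem D.u_mem_centralizer hf]; group
          _ = _ := by rw [D.eq_conj_of_mem D.a_mem_centralizer hf]
      rw [e1] at hle
      have e2 := mul_left_cancel hle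
      calc D.a * j * D.a⁻¹ = (D.a * j⁻¹ * D.a⁻¹)⁻¹ := by group
        _ = j⁻¹ := by rw [e2]
    have hfix : ∀ l ∈ L, D.a * l * D.a⁻¹ = l → l ∈ centralizer (L : Set G) := by
      intro l hl hla
      refine mem_centralizer_iff.2 fun x hx => ?_
      have h1 := hau _ (hL.conj_mem D.y₁_mem.2 hl) (by
        calc D.a * (D.u * (D.y₁ * l * D.y₁⁻¹) * D.u⁻¹) * D.a⁻¹ =
            (D.a * D.u) * (D.y₁ * l * D.y₁⁻¹) * (D.a * D.u)⁻¹ := by group
          _ = D.y₁ * (D.a * l * D.a⁻¹) * D.y₁⁻¹ := by rw [← D.y₁_conj_a]; group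
          _ = D.y₁ * l * D.y₁⁻¹ := by rw [hla])
      have h2 := mem_centralizer_iff.1 h1 _ (hL.conj_mem D.y₁_mem.2 hx)
      have h3 : D.y₁ * (x * l) * D.y₁⁻¹ = D.y₁ * (l * x) * D.y₁⁻¹ := by
        calc D.y₁ * (x * l) * D.y₁⁻¹ = D.y₁ * x * D.y₁⁻¹ * (D.y₁ * l * D.y₁⁻¹) := by group
          _ = D.y₁ * l * D.y₁⁻¹ * (D.y₁ * x * D.y₁⁻¹) := h2
          _ = _ := by group
      exact mul_left_cancel (mul_right_cancel h3)
    intro l hl
    obtain ⟨c, hc, i, hi, rfl, hca, hia⟩ := hL.split h D.a_mem_centralizer D.a_sq hl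
    exact mul_mem (hfix c hc hca) (hinv i hi hia)
  push Not at hall
  obtain ⟨e, he, d, hd, hea, hda, hed⟩ := hall
  exfalso
  have hzF := hL.comm_mem_F h he hd
  obtain ⟨D', hu', hB', hsep⟩ := hP.exists_pencil h (D.F_le_B₂ v hzF)
    (fun e1 => hed (commutatorElement_eq_one_iff_mul_comm.1 e1))
  have hY : ∀ x ∈ L, D.a * x * D.a⁻¹ = x⁻¹ → x ∈ centralizer (D'.F : Set G) := fun x hx hxa =>
    mem_centralizer_iff.2 fun y hy => by
      have hy' : y ∈ D.B₂ v := hB' ▸ D'.F_le hy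
      exact (hL.sign h D.a_mem_centralizer hx (hB₂L hy') hxa
        (conj_eq_self_iff.2 (mem_centralizer_singleton_iff.1 (hP.le hy')).symm)).eq.symm
  have heQ : e ∈ QF p D'.F := D'.key h (hY e he hea) (hL.pow_eq e he) (by rw [hu']; exact hea)
  have hdN := centralizer_le_normalizer_QF (p := p) D'.F (hY d hd hda)
  have hzQ : ⁅e, d⁆ ∈ QF p D'.F := by
    rw [show ⁅e, d⁆ = e * (d * e⁻¹ * d⁻¹) by simp [commutatorElement_def, mul_assoc]]
    exact mul_mem heQ ((mem_normalizer_iff.1 hdN _).1 (inv_mem heQ))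
  refine hsep (D'.fix h hzQ ?_ D'.x₁_mem).symm
  rw [hu']
  exact mem_centralizer_singleton_iff.1 (hP.le (D.F_le_B₂ v hzF))

theorem pair_inf {L : Subgroup G} (h : Hyp G p k) (hL : D.Good L) (hbig : ¬ L ≤ D.F) :
    IsPair p k D.a (L ⊓ centralizer ({D.a} : Set G)) ∧ ∀ v ∈ L, v ∉ D.F → D.u * v * D.u⁻¹ = v⁻¹ →
      Commute D.a v → Commute D.a' v → L ⊓ centralizer ({D.a} : Set G) = D.B₂ v := by
  have hab := hL.abelian h
  have hel : Cfsg.IsElementaryAbelian p (L ⊓ centralizer ({D.a} : Set G)) :=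
    ⟨⟨⟨fun x y => Subtype.ext (mem_centralizer_iff.1 (hab y.2.1) x x.2.1)⟩⟩, fun x hx => hL.pow_eq x hx.1⟩
  have hle := h.le_max_inv hel D.a_sq D.a_ne inf_le_right
  have hkey : ∀ v ∈ L, v ∉ D.F → D.u * v * D.u⁻¹ = v⁻¹ → Commute D.a v → Commute D.a' v →
      L ⊓ centralizer ({D.a} : Set G) = D.B₂ v := by
    intro v hv hvF hvu hva hva'
    obtain ⟨hP, hB₂L, -⟩ := D.pair_of_v h hL hv hvF hvu hva hva'
    exact (eq_of_le_of_card_ge (le_inf hB₂L hP.le) (hP.card.symm ▸ hle)).symm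
  refine ⟨?_, hkey⟩
  obtain ⟨v, hv, hvF, hvu, hva, hva'⟩ := hL.exists_v h hbig
  rw [hkey v hv hvF hvu hva hva']
  exact (D.pair_of_v h hL hv hvF hvu hva hva').1

/-- `C_Q(u) = F`. -/
theorem mem_F_of_commute (h : Hyp G p k) {c : G} (hc : c ∈ QF p D.F) (hcu : c * D.u = D.u * c) :
    c ∈ D.F := by
  by_contra hcF
  classical
  have hex : ∃ n, c ^ p ^ n ∈ D.F := by
    obtain ⟨n, hn⟩ := Cfsg.Lib.Local.Uniq.pow_pow_eq_one (QF_isPGroup (p := p) D.F) hc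
    exact ⟨n, by rw [hn]; exact one_mem _⟩
  obtain ⟨n, hn⟩ := Nat.exists_eq_succ_of_ne_zero
    (show Nat.find hex ≠ 0 from fun h0 => hcF (by simpa [h0] using Nat.find_spec hex))
  set c' := c ^ p ^ n with hc'
  have hc'F : c' ∉ D.F := Nat.find_min hex (by omega)
  have hc'pF : c' ^ p ∈ D.F := by
    rw [hc', ← pow_mul, ← pow_succ, show n + 1 = Nat.find hex by omega]
    exact Nat.find_spec hex
  have hc'Q : c' ∈ QF p D.F := pow_mem hc _
  have hc'u : c' * D.u = D.u * c' := ((show Commute c D.u from hcu).pow_left _).eq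
  have hc'1 : c' ^ p ≠ 1 := fun e => hc'F (D.mem_F_of_pow h hc'Q hc'u e)
  obtain ⟨L, hL, hdet⟩ := D.exists_detector h
  obtain ⟨v, hv, hvF, hvu, hva, hva'⟩ := hL.exists_v h (D.not_le_F h hdet)
  obtain ⟨hP, hB₂L, hv₁a'⟩ := D.pair_of_v h hL hv hvF hvu hva hva'
  obtain ⟨hca, hca'⟩ := D.fix_a h hc'Q hc'u
  set v' := c' * v * c'⁻¹ with hv'
  have hv'L : v' ∈ L := hL.conj_mem hc'Q.2 hv
  have hcom : ∀ g : G, Commute g c' → Commute g v → Commute g v' := fun g h1 h2 =>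
    (h1.mul_right h2).mul_right h1.inv_right
  have hv'u : D.u * v' * D.u⁻¹ = v'⁻¹ := by
    calc D.u * v' * D.u⁻¹ = (D.u * c') * v * (D.u * c')⁻¹ := by rw [hv']; group
      _ = c' * (D.u * v * D.u⁻¹) * c'⁻¹ := by rw [← hc'u]; group
      _ = v'⁻¹ := by rw [hvu, hv']; group
  have hv'a : Commute D.a v' := hcom _ hca.symm hva
  have hv'a' : Commute D.a' v' := hcom _ hca'.symm hva'
  have hmem : v' ∈ D.B₂ v := by
    rw [← (D.pair_inf h hL (D.not_le_F h hdet)).2 v hv hvF hvu hva hva']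
    exact ⟨hv'L, mem_centralizer_singleton_iff.2 hv'a.eq.symm⟩
  have hE := hP.elem
  obtain ⟨w, hw, z, hz, hwz⟩ := (Cfsg.Lib.Core.mem_sup_of_commute
    (Cfsg.Lib.Core.commutator_eq_bot_iff_forall.2 fun x hx y hy =>
      comm_of_elem hE (mem_sup_left hx : x ∈ D.B₂ v) (mem_sup_right hy : y ∈ D.B₂ v))).1 hmem
  obtain ⟨f, hf, t, ht, hft⟩ := (Cfsg.Lib.Core.mem_sup_of_commute
    (Cfsg.Lib.Core.commutator_eq_bot_iff_forall.2 fun x hx y hy =>
      comm_of_elem hE (mem_sup_left (mem_sup_left hx) : x ∈ D.B₂ v)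
        (mem_sup_left (mem_sup_right hy) : y ∈ D.B₂ v))).1 hw
  obtain ⟨j, rfl⟩ := mem_zpowers_iff.1 hz
  obtain ⟨i, rfl⟩ := mem_zpowers_iff.1 ht
  have hwa' : Commute D.a' w := by
    rw [← hft]
    exact (show Commute D.a' f from (mem_centralizer_iff.1 D.a'_mem_centralizer f hf).symm).mul_right
      (hva'.zpow_right i)
  have hz1 : D.v₁ v ^ j = 1 := by
    have hinv : D.a' * D.v₁ v ^ j * D.a'⁻¹ = (D.v₁ v ^ j)⁻¹ := by rw [← conj_zpow, hv₁a', inv_zpow]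
    have hc1 : Commute D.a' (D.v₁ v ^ j) := by
      have : D.v₁ v ^ j = w⁻¹ * v' := by rw [← hwz, inv_mul_cancel_left]
      rw [this]; exact hwa'.inv_right.mul_right hv'a'
    exact eq_one_of_eq_inv h.odd_p (hE.2 _ (mem_sup_right hz))
      ((conj_eq_self_iff.2 hc1.eq).symm.trans hinv)
  rw [hz1, mul_one, ← hft] at hwz
  have hf1 : f = 1 := by
    refine hL.eq_one_of_mem_F_inv h hf ?_
    rw [← hwz] at hv'u
    have e1 : D.u * (f * v ^ i) * D.u⁻¹ = f * (v ^ i)⁻¹ := by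
      calc D.u * (f * v ^ i) * D.u⁻¹ = (D.u * f * D.u⁻¹) * (D.u * v ^ i * D.u⁻¹) := by group
        _ = _ := by rw [D.eq_conj_of_mem D.u_mem_centralizer hf, ← conj_zpow, hvu, inv_zpow]
    rw [e1, mul_inv_rev] at hv'u
    have hcomm : Commute f (v ^ i)⁻¹ :=
      (show Commute f (v ^ i) from hL.commute_F (zpow_mem hv i) hf).inv_right
    rw [hcomm.eq] at hv'u
    exact mul_left_cancel hv'u
  rw [hf1, one_mul] at hwz
  have hcv : Commute c' v := by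
    refine Cfsg.Lib.Local.Uniq.commute_of_normalizes (Cfsg.Lib.Local.Uniq.pow_pow_eq_one
      (QF_isPGroup (p := p) D.F) hc'Q) (hL.pow_eq v hv) ?_
    rw [mem_normalizer_iff_map_conj_eq]
    refine eq_of_le_of_card_ge ?_ (card_map_of_injective (MulAut.conj c').injective).ge
    rw [MonoidHom.map_zpowers, zpowers_le]
    exact mem_zpowers_iff.2 ⟨i, hwz⟩
  have hcv₁ : Commute c' (D.v₁ v) :=
    ((D.fix h hc'Q hc'u D.x₁_mem).mul_right hcv).mul_right (D.fix h hc'Q hc'u D.x₁_mem).inv_right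
  have hcB : D.B₂ v ≤ centralizer ({c'} : Set G) := sup_le (sup_le
      (fun f hf => mem_centralizer_singleton_iff.2 (mem_centralizer_iff.1 hc'Q.2 f hf))
      (zpowers_le.2 (mem_centralizer_singleton_iff.2 hcv.eq.symm)))
    (zpowers_le.2 (mem_centralizer_singleton_iff.2 hcv₁.eq.symm))
  exact hP.not_root h hca.eq (fun b hb => (mem_centralizer_singleton_iff.1 (hcB hb)).symm)
    (D.F_le_B₂ v hc'pF) hc'1

/-- `Ω₁(Q)` is an elementary abelian subgroup properly containing `F`. -/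
theorem exists_omega_QF (h : Hyp G p k) :
    ∃ L : Subgroup G, D.Good L ∧ ¬ L ≤ D.F ∧ ∀ x, x ∈ L ↔ x ∈ QF p D.F ∧ x ^ p = 1 := by
  set Q := QF p D.F with hQ
  have hdec : ∀ q ∈ Q, ∃ f ∈ D.F, D.u * q * D.u⁻¹ = q⁻¹ * f := by
    intro q hq
    have hm : q⁻¹ * (D.u * q * D.u⁻¹) ∈ Q := mul_mem (inv_mem hq)
      ((mem_normalizer_iff.1 (centralizer_le_normalizer_QF D.F D.u_mem_centralizer) q).1 hq)
    obtain ⟨e, he⟩ := Cfsg.Lib.Local.Uniq.pow_pow_eq_one (QF_isPGroup (p := p) D.F) hm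
    obtain ⟨i, hi, hiu, hcu⟩ := exists_fixed_mul_inverted D.pair.sq (h.odd_p.pow) he
    have hiQ : i ∈ Q := zpowers_le.2 hm hi
    set f := q * i⁻¹ with hf
    have hfF : f ∈ D.F := D.mem_F_of_commute h (mul_mem hq (inv_mem hiQ)) (conj_eq_self_iff.1 hcu).symm
    refine ⟨f * f, mul_mem hfF hfF, ?_⟩
    have hfi : Commute f i := mem_centralizer_iff.1 hiQ.2 f hfF
    calc D.u * q * D.u⁻¹ = (D.u * f * D.u⁻¹) * (D.u * i * D.u⁻¹) := by rw [hf]; group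
      _ = f * i⁻¹ := by rw [hiu, D.eq_conj_of_mem D.u_mem_centralizer hfF]
      _ = i⁻¹ * f := hfi.inv_right.eq
      _ = q⁻¹ * (f * f) := by rw [hf]; group
  have hcomm : ∀ q ∈ Q, ∀ r ∈ Q, ⁅r, q⁆ ∈ D.F := by
    intro q hq r hr
    obtain ⟨f₁, hf₁, e1⟩ := hdec q hq
    obtain ⟨f₂, hf₂, e2⟩ := hdec r hr
    obtain ⟨f₃, hf₃, e3⟩ := hdec (q * r) (mul_mem hq hr)
    have e4 : D.u * (q * r) * D.u⁻¹ = q⁻¹ * r⁻¹ * (f₁ * f₂) := by
      calc D.u * (q * r) * D.u⁻¹ = (D.u * q * D.u⁻¹) * (D.u * r * D.u⁻¹) := by group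
        _ = q⁻¹ * (f₁ * r⁻¹) * f₂ := by rw [e1, e2]; group
        _ = q⁻¹ * (r⁻¹ * f₁) * f₂ := by
          rw [(show Commute f₁ r from mem_centralizer_iff.1 hr.2 f₁ hf₁).inv_right.eq]
        _ = _ := by group
    rw [e4] at e3
    have e5 : ⁅r, q⁆ = f₁ * f₂ * f₃⁻¹ := by
      calc ⁅r, q⁆ = (q⁻¹ * r⁻¹)⁻¹ * ((q * r)⁻¹ * f₃) * f₃⁻¹ := by rw [commutatorElement_def]; group
        _ = _ := by rw [← e3]; group
    rw [e5]
    exact mul_mem (mul_mem hf₁ hf₂) (inv_mem hf₃)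
  have hcl : ClassTwo Q := fun a ha b hb c hc =>
    (mem_centralizer_iff.1 hc.2 _ (hcomm b hb a ha)).symm
  obtain ⟨W, hW⟩ := hcl.exists_omega h.odd
  have hgood : D.Good W := ⟨fun f hf => (hW f).2 ⟨le_QF D.F_elem hf, D.F_elem.2 f hf⟩,
    fun x hx => ((hW x).1 hx).1, fun x hx => ((hW x).1 hx).2,
    fun a ha b hb c hc => hcl a ((hW a).1 ha).1 b ((hW b).1 hb).1 c ((hW c).1 hc).1,
    Cfsg.Lib.Core.le_normalizer_iff_conj_mem.2 fun g hg x hx => (hW _).2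
      ⟨(mem_normalizer_iff.1 (centralizer_le_normalizer_QF D.F hg) x).1 ((hW x).1 hx).1,
        by rw [conj_pow, ((hW x).1 hx).2, mul_one, mul_inv_cancel]⟩⟩
  obtain ⟨L, hL, hdet⟩ := D.exists_detector h
  exact ⟨W, hgood, fun hle => D.not_le_F h hdet fun x hx => hle ((hW x).2 ⟨hL.le_QF hx, hL.pow_eq x hx⟩), hW⟩

end Pencil

end Cfsg.Lib.Sig.KlingerMason
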