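import Cfsg.Agent.Lib.Sig.KlingerMason.Key

/-!
Klinger–Mason: a finite group of characteristic `p` and of characteristic two has two-local `p`-rank at
most two.
-/

set_option autoImplicit false

namespace Cfsg.Lib.Sig.KlingerMason

open Subgroup
open scoped commutatorElement

variable {G : Type*} [Group G] [Finite G] {p k : ℕ} [hp : Fact p.Prime]

namespace Pencil

variable (D : Pencil G p k)

theorem Good.exists_inverted {L : Subgroup G} {D : Pencil G p k} (h : Hyp G p k) (hL : D.Good L)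
    {g : G} (hg : g ∈ centralizer (D.F : Set G)) (hg2 : g * g = 1) :
    ∃ I : Subgroup G, (∀ x, x ∈ I ↔ x ∈ L ∧ g * x * g⁻¹ = x⁻¹) ∧
      Nat.card L = Nat.card ↥(L ⊓ centralizer ({g} : Set G)) * Nat.card I := by
  have hab := hL.abelian h
  have hcomm : ∀ x ∈ L, ∀ y ∈ L, x * y = y * x := fun x hx y hy =>
    mem_centralizer_iff.1 (hab hy) x hx
  let I : Subgroup G :=
    { carrier := {x | x ∈ L ∧ g * x * g⁻¹ = x⁻¹}
      one_mem' := ⟨one_mem _, by simp⟩
      inv_mem' := fun {x} hx => ⟨inv_mem hx.1, by rw [← conj_inv, hx.2]⟩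
      mul_mem' := fun {x y} hx hy => ⟨mul_mem hx.1 hy.1, by
        rw [← conj_mul, hx.2, hy.2, mul_inv_rev, hcomm _ (inv_mem hx.1) _ (inv_mem hy.1)]⟩ }
  refine ⟨I, fun x => Iff.rfl, ?_⟩
  have hIL : I ≤ L := fun x hx => hx.1
  have hd : Disjoint (L ⊓ centralizer ({g} : Set G)) I := by
    rw [disjoint_def]
    intro x hx hxI
    exact eq_one_of_eq_inv h.odd_p (hL.pow_eq x hx.1)
      ((mem_centralizer_singleton.1 hx.2).symm.trans hxI.2)
  rw [← Coprime.card_sup_of_disjoint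
    ((hIL.trans hab).trans ((centralizer_le inf_le_left).trans (centralizer_le_normalizer _))) hd]
  congr 2
  refine le_antisymm ?_ (sup_le inf_le_left hIL)
  intro l hl
  obtain ⟨c, hc, i, hi, rfl, hgc, hgi⟩ := hL.split h hg hg2 hl
  exact mul_mem_sup ⟨hc, mem_centralizer_singleton.2 hgc⟩ ⟨hi, hgi⟩

theorem card_good {L : Subgroup G} (h : Hyp G p k) (hL : D.Good L) (hbig : ¬ L ≤ D.F) :
    Nat.card L = p ^ (k + 2) := by
  obtain ⟨hP, -⟩ := D.pair_inf h hL hbig
  have hab := hL.abelian h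
  set X := L ⊓ centralizer ({D.a} : Set G) with hX
  set Y := L ⊓ centralizer ({D.a * D.u} : Set G) with hY
  have hmap : Y = X.map (MulAut.conj D.y₁).toMonoidHom := by
    rw [hX, map_inf_eq _ _ _ (MulEquiv.injective _),
      Coprime.map_conj_eq_self (hL.norm D.y₁_mem.2), hY]
    congr 1
    ext x
    simp only [mem_map, MulEquiv.coe_toMonoidHom, MulAut.conj_apply, mem_centralizer_singleton,
      ← D.y₁_conj_a]
    constructor
    · intro hx
      refine ⟨D.y₁⁻¹ * x * D.y₁, ?_, by group⟩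
      calc D.a * (D.y₁⁻¹ * x * D.y₁) * D.a⁻¹ =
          D.y₁⁻¹ * (D.y₁ * D.a * D.y₁⁻¹ * x * (D.y₁ * D.a * D.y₁⁻¹)⁻¹) * D.y₁ := by group
        _ = _ := by rw [hx]
    · rintro ⟨y, hy, rfl⟩
      calc D.y₁ * D.a * D.y₁⁻¹ * (D.y₁ * y * D.y₁⁻¹) * (D.y₁ * D.a * D.y₁⁻¹)⁻¹ =
          D.y₁ * (D.a * y * D.a⁻¹) * D.y₁⁻¹ := by group
        _ = _ := by rw [hy]
  have hYc : Nat.card Y = p ^ k := by
    rw [hmap, card_map_of_injective (MulEquiv.injective _)]
    exact hP.card
  have hsup : X ⊔ Y = L := by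
    refine le_antisymm (sup_le inf_le_left inf_le_left) fun l hl => ?_
    obtain ⟨c, hc, i, hi, rfl, hca, hia⟩ := hL.split h D.a_mem_centralizer D.a_sq hl
    obtain ⟨f, hf, j, hj, e, hju⟩ := hL.split_u h hi
    have hf1 := hL.mixed h D.u_mem_centralizer D.a_mem_centralizer D.ua hf hj e hju hia
    rw [hf1, one_mul] at e
    subst e
    refine mul_mem_sup ⟨hc, mem_centralizer_singleton.2 hca⟩ ⟨hi, mem_centralizer_singleton.2 ?_⟩
    calc D.a * D.u * i * (D.a * D.u)⁻¹ = D.a * (D.u * i * D.u⁻¹) * D.a⁻¹ := by group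
      _ = (D.a * i * D.a⁻¹)⁻¹ := by rw [hju]; group
      _ = i := by rw [hia, inv_inv]
  have hinf : X ⊓ Y = D.F := by
    refine le_antisymm (fun x hx => hL.fixed_u h hx.1.1 ?_) (le_inf ?_ ?_)
    · have h1 : Commute D.a x := (mem_centralizer_singleton_iff.1 hx.1.2).symm
      have h2 : Commute (D.a * D.u) x := (mem_centralizer_singleton_iff.1 hx.2.2).symm
      have h3 : Commute D.u x := by simpa using h1.inv_left.mul_left h2
      exact h3.eq.symm
    · exact le_inf hL.F_le fun f hf =>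
        mem_centralizer_singleton_iff.2 (mem_centralizer_iff.1 D.a_mem_centralizer f hf)
    · exact le_inf hL.F_le fun f hf => mem_centralizer_singleton_iff.2
        (mem_centralizer_iff.1 (mul_mem D.a_mem_centralizer D.u_mem_centralizer) f hf)
  have := card_sup_mul_inf (A := X) (B := Y)
    ((inf_le_left.trans hab).trans ((centralizer_le inf_le_left).trans (centralizer_le_normalizer _)))
  rw [hsup, hinf, hYc, hP.card, D.F_card, ← pow_add,
    show k + k = k + 2 + (k - 2) by have := h.three_le; omega, pow_add] at this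
  exact Nat.eq_of_mul_eq_mul_right (pow_pos hp.out.pos _) this

theorem card_inverted {L I : Subgroup G} (h : Hyp G p k) (hL : D.Good L) (hbig : ¬ L ≤ D.F) {n : ℕ}
    (hn : n ≤ 4) {g : G} (hfix : Nat.card ↥(L ⊓ centralizer ({g} : Set G)) = p ^ (k + 2 - n))
    (hsplit : Nat.card L = Nat.card ↥(L ⊓ centralizer ({g} : Set G)) * Nat.card I) :
    Nat.card I = p ^ n := by
  rw [D.card_good h hL hbig, hfix] at hsplit
  have := h.three_le
  have e : p ^ (k + 2) = p ^ (k + 2 - n) * p ^ n := by rw [← pow_add]; congr 1; omega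
  exact (Nat.eq_of_mul_eq_mul_left (pow_pos hp.out.pos _) (e.symm.trans hsplit)).symm

/-- Two conjugators inducing the same action force the involution to centralize. -/
theorem commute_of_same_action {u x b m : G} {M : Subgroup G} (hu : u * u = 1) (hx : x * x = u)
    (hy : b * x * b⁻¹ * (b * x * b⁻¹) = u) (hxy : ⁅x, b * x * b⁻¹⁆ = u) (hb : Commute b u)
    (hxM : ∀ m ∈ M, x * m * x⁻¹ ∈ M) (hbM : ∀ m ∈ M, Commute b m) (hm : m ∈ M) : Commute u m := by
  set y := b * x * b⁻¹ with hy'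
  have h1 : y * m * y⁻¹ = x * m * x⁻¹ := by
    calc y * m * y⁻¹ = b * (x * (b⁻¹ * m * b) * x⁻¹) * b⁻¹ := by rw [hy']; group
      _ = b * (x * m * x⁻¹) * b⁻¹ := by rw [mul_assoc b⁻¹, ← (hbM m hm).eq, inv_mul_cancel_left]
      _ = x * m * x⁻¹ := conj_eq_self_iff.2 (hbM _ (hxM m hm)).eq
  have h2 : Commute (x⁻¹ * y) m := by
    refine conj_eq_self_iff.1 ?_
    calc x⁻¹ * y * m * (x⁻¹ * y)⁻¹ = x⁻¹ * (y * m * y⁻¹) * x := by group
      _ = m := by rw [h1]; group
  have hg : x⁻¹ * y * (x⁻¹ * y) = u := by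
    have hxu : Commute x u := by rw [← hx]; exact (Commute.refl x).mul_right (Commute.refl x)
    have hi : x⁻¹ = u * x := by
      refine inv_eq_of_mul_eq_one_right ?_
      rw [← mul_assoc, hxu.eq, mul_assoc, hx, hu]
    have hyu : Commute y u := by rw [← hy]; exact (Commute.refl y).mul_right (Commute.refl y)
    have hyx : x * y = u * (y * x) := by rw [← hxy, commutatorElement_def]; group
    calc x⁻¹ * y * (x⁻¹ * y) = u * x * y * (u * x * y) := by rw [hi]
      _ = u * ((x * y) * u) * (x * y) := by group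
      _ = u * (u * (x * y)) * (x * y) := by rw [(hxu.mul_left hyu).eq]
      _ = x * y * (x * y) := by rw [← mul_assoc u u, hu, one_mul]
      _ = u * (y * x) * (x * y) := by nth_rewrite 1 [hyx]; rfl
      _ = u * (y * (x * x)) * y := by group
      _ = u * (u * (y * y)) := by rw [hx, hyu.eq]; group
      _ = u := by rw [hy, hu, mul_one]
  rw [← hg]
  exact h2.mul_left h2

theorem false_of_pencil (h : Hyp G p k) (D : Pencil G p k) : False := by
  obtain rfl := D.pair.eq_three h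
  have hk := h.three_le
  obtain ⟨L, hL, hbig, -⟩ := D.exists_omega_QF h
  obtain ⟨hP, -⟩ := D.pair_inf h hL hbig
  set B := L ⊓ centralizer ({D.a} : Set G) with hB
  obtain ⟨E, hE, hEsplit⟩ := hL.exists_inverted h D.a_mem_centralizer D.a_sq
  have hEc : Nat.card E = 3 ^ 2 := D.card_inverted h hL hbig (by norm_num)
    (by rw [hP.card, show k + 2 - 2 = k by omega]) hEsplit
  obtain ⟨z, hz, hz1⟩ := B.bot_or_exists_ne_one.resolve_left
    (ne_bot_of_card (p := 3) (by omega) hP.card)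
  obtain ⟨D', hu', hB', -⟩ := hP.exists_pencil h hz hz1
  obtain ⟨L', hL', hbig', hmem'⟩ := D'.exists_omega_QF h
  have hfix' : L' ⊓ centralizer ({D'.u} : Set G) = D'.F := le_antisymm
    (fun x hx => hL'.fixed_u h hx.1 (mem_centralizer_singleton_iff.1 hx.2))
    (le_inf hL'.F_le fun f hf =>
      mem_centralizer_singleton_iff.2 (mem_centralizer_iff.1 D'.u_mem_centralizer f hf))
  obtain ⟨I, hI, hIsplit⟩ := hL'.exists_inverted h D'.u_mem_centralizer D'.pair.sq
  have hIc : Nat.card I = 3 ^ 4 := D'.card_inverted h hL' hbig' le_rfl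
    (by rw [hfix', D'.F_card, show k + 2 - 4 = k - 2 by omega]) hIsplit
  have hEB : ∀ e ∈ E, ∀ b ∈ D'.B, Commute b e := fun e he b hb =>
    mem_centralizer_iff.1 (hL.abelian h ((hE e).1 he).1) b (hB' ▸ hb : b ∈ B).1
  have hEI : E ≤ I := by
    intro e he
    obtain ⟨heL, hea⟩ := (hE e).1 he
    rw [← hu'] at hea
    refine (hI e).2 ⟨(hmem' e).2 ⟨D'.key h ?_ (hL.pow_eq e heL) hea, hL.pow_eq e heL⟩, hea⟩
    exact mem_centralizer_iff.2 fun f hf => (hEB e he f (D'.F_le hf)).eq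
  have hIinv : ∀ g ∈ centralizer (D'.F : Set G), Commute g D'.u → ∀ m ∈ I, g * m * g⁻¹ ∈ I := by
    intro g hg hgu m hm
    obtain ⟨hmL, hmu⟩ := (hI m).1 hm
    refine (hI _).2 ⟨hL'.conj_mem hg hmL, ?_⟩
    calc D'.u * (g * m * g⁻¹) * D'.u⁻¹ = (D'.u * g) * m * (D'.u * g)⁻¹ := by group
      _ = g * (D'.u * m * D'.u⁻¹) * g⁻¹ := by rw [← hgu.eq]; group
      _ = (g * m * g⁻¹)⁻¹ := by rw [hmu]; group
  have hbot : ∀ M : Subgroup G, M ≤ I → E ≤ M → (∀ m ∈ M, Commute D'.u m) → False := by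
    intro M hMI hEM hM
    refine ne_bot_of_card (p := 3) (by norm_num) hEc (eq_bot_iff.2 fun e he => mem_bot.2 ?_)
    obtain ⟨heL, heu⟩ := (hI e).1 (hMI (hEM he))
    exact eq_one_of_eq_inv h.odd_p (hL'.pow_eq e heL)
      ((conj_eq_self_iff.2 (hM e (hEM he)).eq).symm.trans heu)
  have hbu : ∀ b ∈ D'.B, Commute b D'.u := fun b hb =>
    mem_centralizer_singleton_iff.1 (D'.pair.le hb)
  set C := I ⊓ centralizer ({D'.b₁} : Set G) with hC
  have hEC : E ≤ C := fun e he =>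
    ⟨hEI he, mem_centralizer_singleton_iff.2 (hEB e he _ D'.b₁_mem).eq.symm⟩
  have hCne : C ≠ I := fun e => hbot I le_rfl hEI fun m hm =>
    commute_of_same_action D'.pair.sq D'.x₁_sq (D'.y₁_eq ▸ D'.y₁_sq) (D'.y₁_eq ▸ D'.comm₁)
      (hbu _ D'.b₁_mem) (hIinv _ D'.x₁_mem.2 (D'.commute_u D'.x₁_mem.1).symm)
      (fun m hm => (mem_centralizer_singleton_iff.1 (e.ge hm).2).symm) hm
  have hxC : ∀ m ∈ C, D'.x₂ * m * D'.x₂⁻¹ ∈ C := fun m hm =>
    ⟨hIinv _ D'.x₂_mem.2 (D'.commute_u D'.x₂_mem.1).symm m hm.1, mem_centralizer_singleton_iff.2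
      ((D'.bx₂.mul_right (show Commute D'.b₁ m from (mem_centralizer_singleton_iff.1 hm.2).symm)).mul_right
        D'.bx₂.inv_right).eq.symm⟩
  have hmod := card_modEq_sq (q := 2) (R := C) (c := D'.x₂)
    (mem_normalizer_iff_map_conj_eq.2 (eq_of_le_of_card_ge (by
      rintro _ ⟨m, hm, rfl⟩; exact hxC m hm) (card_map_of_injective (MulEquiv.injective _)).ge))
    (by rw [pow_mul, pow_two D'.x₂, D'.x₂_sq, pow_two, D'.pair.sq])
  have hCfix : C ⊓ centralizer ({D'.x₂ ^ 2} : Set G) = ⊥ := by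
    rw [eq_bot_iff]
    rintro m ⟨hm, hmu⟩
    obtain ⟨hmL, hminv⟩ := (hI m).1 hm.1
    rw [pow_two, D'.x₂_sq] at hmu
    exact mem_bot.2 (eq_one_of_eq_inv h.odd_p (hL'.pow_eq m hmL)
      ((mem_centralizer_singleton.1 hmu).symm.trans hminv))
  rw [hCfix, card_bot] at hmod
  obtain ⟨i, hi⟩ := (((QF_isPGroup (p := 3) D'.F).to_le hL'.le_QF).to_le
    (show C ≤ L' from fun x hx => ((hI x).1 hx.1).1)).exists_card_eq
  have hi4 : i < 4 := by
    have hlt : Nat.card C < Nat.card I := lt_of_le_of_ne (card_le_of_le inf_le_left)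
      fun e => hCne (eq_of_le_of_card_ge inf_le_left e.ge)
    rw [hi, hIc] at hlt
    exact (Nat.pow_lt_pow_iff_right (by norm_num)).1 hlt
  have hi2 : 2 ≤ i := by
    have := card_le_of_le hEC
    rw [hEc, hi] at this
    exact (Nat.pow_le_pow_iff_right (by norm_num)).1 this
  have hi' : i = 2 := by
    rw [hi] at hmod
    interval_cases i <;> first | rfl | exact absurd hmod (by decide)
  have hCE : C = E := (eq_of_le_of_card_ge hEC (by rw [hi, hi', hEc])).symm
  exact hbot C inf_le_left hEC fun m hm => commute_of_same_action D'.pair.sq D'.x₂_sq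
    (D'.y₂_eq ▸ D'.y₂_sq) (D'.y₂_eq ▸ D'.comm₂) (hbu _ D'.b₂_mem) hxC
    (fun m hm => hEB m (hCE ▸ hm) _ D'.b₂_mem) hm

end Pencil

/-- The theorem of Klinger and Mason. -/
theorem Hyp.false (h : Hyp G p k) {E T : Subgroup G} (hE : Cfsg.IsElementaryAbelian p E)
    (hEc : Nat.card E = p ^ k) (hT : IsPGroup 2 T) (hT1 : T ≠ ⊥)
    (hET : E ≤ normalizer (T : Set G)) : False := by
  obtain ⟨u, B, h1, h2, h3, h4, h5⟩ := h.exists_pair hE hEc hT hT1 hET
  have P : IsPair p k u B := ⟨h1, h2, h3, h4, h5⟩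
  obtain ⟨z, hz, hz1⟩ := B.bot_or_exists_ne_one.resolve_left
    (ne_bot_of_card (p := p) (by have := h.three_le; omega) h4)
  obtain ⟨D, -, -, -⟩ := P.exists_pencil h hz hz1
  exact D.false_of_pencil h

end Cfsg.Lib.Sig.KlingerMason
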