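import Cfsg.Agent.S0093
import Cfsg.Agent.S0121
import Cfsg.Agent.Lib.Sig.KlingerMason.Data

/-!
Klinger–Mason: the action of a pencil configuration on `Q = O_p(N(F)) ∩ C(F)`: the subgroups of
exponent `p` are abelian, and `C_Q(u) = F`.
-/

set_option autoImplicit false

namespace Cfsg.Lib.Sig.KlingerMason

open Subgroup
open scoped commutatorElement

variable {G : Type*} [Group G] [Finite G] {p k : ℕ} [hp : Fact p.Prime]

namespace Pencil

variable (D : Pencil G p k)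

/-- The first involution of the pencil. -/
def a : G := D.x₁ * D.x₂

/-- The second involution of the pencil. -/
def a' : G := D.y₁ * D.y₂

/-- A subgroup of exponent `p` and class two of `O_p(N(F)) ∩ C(F)` on which `C(F)` acts. -/
structure Good (L : Subgroup G) : Prop where
  F_le : D.F ≤ L
  le_QF : L ≤ QF p D.F
  pow_eq : ∀ l ∈ L, l ^ p = 1
  cls : ClassTwo L
  norm : centralizer (D.F : Set G) ≤ normalizer (L : Set G)

theorem F_elem : Cfsg.IsElementaryAbelian p D.F := PGroup.isElementaryAbelian_of_le D.pair.elem D.F_le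

theorem F_ne (h : Hyp G p k) : D.F ≠ ⊥ := ne_bot_of_card (by have := h.three_le; omega) D.F_card

theorem F_isPGroup : IsPGroup p D.F := PGroup.isPGroup_of_isElementaryAbelian D.F_elem

theorem u_inv : D.u⁻¹ = D.u := inv_eq_of_mul_eq_one_right D.pair.sq

theorem commute_u {r : G} (hr : r ∈ TT D.u) : Commute D.u r := D.pair.commute_u_TT hr

theorem u_mem_centralizer : D.u ∈ centralizer (D.F : Set G) :=
  mem_centralizer_iff.2 fun f hf => mem_centralizer_singleton_iff.1 (D.pair.le (D.F_le hf))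

theorem a_mem_centralizer : D.a ∈ centralizer (D.F : Set G) := mul_mem D.x₁_mem.2 D.x₂_mem.2

theorem a'_mem_centralizer : D.a' ∈ centralizer (D.F : Set G) := mul_mem D.y₁_mem.2 D.y₂_mem.2

theorem ua : Commute D.u D.a := (D.commute_u D.x₁_mem.1).mul_right (D.commute_u D.x₂_mem.1)

theorem ua' : Commute D.u D.a' := (D.commute_u D.y₁_mem.1).mul_right (D.commute_u D.y₂_mem.1)

theorem a_sq : D.a * D.a = 1 := by
  calc D.x₁ * D.x₂ * (D.x₁ * D.x₂) = D.x₁ * (D.x₂ * D.x₁) * D.x₂ := by group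
    _ = (D.x₁ * D.x₁) * (D.x₂ * D.x₂) := by rw [← D.xx.eq]; group
    _ = 1 := by rw [D.x₁_sq, D.x₂_sq, D.pair.sq]

theorem a'_sq : D.a' * D.a' = 1 := by
  calc D.y₁ * D.y₂ * (D.y₁ * D.y₂) = D.y₁ * (D.y₂ * D.y₁) * D.y₂ := by group
    _ = (D.y₁ * D.y₁) * (D.y₂ * D.y₂) := by rw [← D.yy.eq]; group
    _ = 1 := by rw [D.y₁_sq, D.y₂_sq, D.pair.sq]

theorem xyx : D.x₁ * D.y₁ = D.u * (D.y₁ * D.x₁) := by
  rw [← D.comm₁, commutatorElement_def]; group

theorem x₁_a : Commute D.x₁ D.a := (Commute.refl D.x₁).mul_right D.xx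

theorem y₁_a' : Commute D.y₁ D.a' := (Commute.refl D.y₁).mul_right D.yy

theorem x₁_conj_a' : D.x₁ * D.a' * D.x₁⁻¹ = D.a' * D.u := by
  calc D.x₁ * (D.y₁ * D.y₂) * D.x₁⁻¹ = D.x₁ * D.y₁ * (D.y₂ * D.x₁⁻¹) := by group
    _ = D.u * (D.y₁ * D.x₁) * (D.x₁⁻¹ * D.y₂) := by rw [D.xyx, D.xy.inv_left.eq]
    _ = D.u * D.a' := by rw [Pencil.a']; group
    _ = D.a' * D.u := D.ua'.eq

theorem y₁_conj_a : D.y₁ * D.a * D.y₁⁻¹ = D.a * D.u := by
  have e : D.y₁ * D.x₁ = D.u * (D.x₁ * D.y₁) := by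
    rw [D.xyx, ← mul_assoc, D.pair.sq, one_mul]
  calc D.y₁ * (D.x₁ * D.x₂) * D.y₁⁻¹ = D.y₁ * D.x₁ * (D.x₂ * D.y₁⁻¹) := by group
    _ = D.u * (D.x₁ * D.y₁) * (D.y₁⁻¹ * D.x₂) := by rw [e, D.yx.inv_left.eq]
    _ = D.u * D.a := by rw [Pencil.a]; group
    _ = D.a * D.u := D.ua.eq

theorem a_a' : Commute D.a D.a' := by
  have h1 : D.x₁ * D.a' = D.a' * D.u * D.x₁ := mul_inv_eq_iff_eq_mul.1 D.x₁_conj_a'
  have h2 : D.x₂ * D.y₂ = D.u * (D.y₂ * D.x₂) := by rw [← D.comm₂, commutatorElement_def]; group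
  have h3 : D.x₂ * D.a' = D.u * D.a' * D.x₂ := by
    calc D.x₂ * (D.y₁ * D.y₂) = D.x₂ * D.y₁ * D.y₂ := by group
      _ = D.y₁ * (D.x₂ * D.y₂) := by rw [← D.yx.eq]; group
      _ = D.y₁ * D.u * (D.y₂ * D.x₂) := by rw [h2]; group
      _ = D.u * D.y₁ * (D.y₂ * D.x₂) := by rw [(D.commute_u D.y₁_mem.1).eq]
      _ = D.u * D.a' * D.x₂ := by rw [Pencil.a']; group
  show D.x₁ * D.x₂ * D.a' = D.a' * (D.x₁ * D.x₂)
  calc D.x₁ * D.x₂ * D.a' = D.x₁ * (D.u * D.a' * D.x₂) := by rw [mul_assoc, h3]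
    _ = (D.x₁ * D.u) * D.a' * D.x₂ := by group
    _ = D.u * (D.x₁ * D.a') * D.x₂ := by rw [← (D.commute_u D.x₁_mem.1).eq]; group
    _ = D.u * (D.a' * D.u) * D.x₁ * D.x₂ := by rw [h1]; group
    _ = D.a' * (D.x₁ * D.x₂) := by
      rw [← D.ua'.eq, ← mul_assoc D.u D.u, D.pair.sq, one_mul, mul_assoc]

theorem a_not : D.a ∉ zpowers D.u := by
  intro hm
  obtain ⟨i, hi⟩ := mem_zpowers_iff.1 hm
  have := conj_eq_self_iff.2 ((D.commute_u D.y₁_mem.1).symm.zpow_right i).eq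
  rw [hi, D.y₁_conj_a, mul_eq_left] at this
  exact D.pair.ne this

theorem a_ne : D.a ≠ 1 := fun e => D.a_not (e ▸ (zpowers D.u).one_mem)

theorem a'_not : D.a' ∉ zpowers D.u ⊔ zpowers D.a := by
  intro hm
  have hle : zpowers D.u ⊔ zpowers D.a ≤ centralizer ({D.x₁} : Set G) := sup_le
    (zpowers_le.2 (mem_centralizer_singleton_iff.2 (D.commute_u D.x₁_mem.1).eq))
    (zpowers_le.2 (mem_centralizer_singleton_iff.2 D.x₁_a.eq.symm))
  have := conj_eq_self_iff.2 (mem_centralizer_singleton_iff.1 (hle hm)).symm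
  rw [D.x₁_conj_a', mul_eq_left] at this
  exact D.pair.ne this

/-- Elements of `Q` commuting with `u` commute with the pencil. -/
theorem fix (h : Hyp G p k) {c r : G} (hc : c ∈ QF p D.F) (hcu : c * D.u = D.u * c)
    (hr : r ∈ TT D.u ⊓ centralizer (D.F : Set G)) : Commute c r := by
  have hT : r * (c * r⁻¹ * c⁻¹) ∈ TT D.u := mul_mem hr.1 ((mem_normalizer_iff.1
    (centralizer_le_normalizer_TT D.u (mem_centralizer_singleton_iff.2 hcu)) _).1 (inv_mem hr.1))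
  have hQ : r * c * r⁻¹ * c⁻¹ ∈ QF p D.F := mul_mem
    ((mem_normalizer_iff.1 (centralizer_le_normalizer_QF D.F hr.2) c).1 hc) (inv_mem hc)
  have := eq_one_of_mem_TT_of_mem h (QF_isPGroup D.F) hT
    (by rw [show r * (c * r⁻¹ * c⁻¹) = r * c * r⁻¹ * c⁻¹ by group]; exact hQ)
  rw [show r * (c * r⁻¹ * c⁻¹) = ⁅r, c⁆ by rw [commutatorElement_def]; group,
    commutatorElement_eq_one_iff_mul_comm] at this
  exact this.symm

theorem fix_a (h : Hyp G p k) {c : G} (hc : c ∈ QF p D.F) (hcu : c * D.u = D.u * c) :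
    Commute c D.a ∧ Commute c D.a' :=
  ⟨(D.fix h hc hcu D.x₁_mem).mul_right (D.fix h hc hcu D.x₂_mem),
    (D.fix h hc hcu D.y₁_mem).mul_right (D.fix h hc hcu D.y₂_mem)⟩

theorem mem_F_of_pow (h : Hyp G p k) {c : G} (hc : c ∈ QF p D.F) (hcu : c * D.u = D.u * c)
    (hcp : c ^ p = 1) : c ∈ D.F := by
  by_contra hcF
  obtain ⟨hE, hEc⟩ := elem_adjoin D.F_elem hcp ((inf_le_right : QF p D.F ≤ _) hc) hcF
  have hA1 : Cfsg.IsElementaryAbelian 2 (zpowers D.u) :=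
    Cfsg.Lib.Local.Uniq.elementary_zpowers (by rw [pow_two, D.pair.sq])
  obtain ⟨hA2, hA2c⟩ := elem_adjoin hA1 (y := D.a) (by rw [pow_two, D.a_sq])
    (mem_centralizer_zpowers D.ua.eq.symm) D.a_not
  obtain ⟨hA3, hA3c⟩ := elem_adjoin hA2 (y := D.a') (by rw [pow_two, D.a'_sq])
    (mem_centralizer_sup (mem_centralizer_zpowers D.ua'.eq.symm) (mem_centralizer_zpowers D.a_a'.eq.symm))
    D.a'_not
  rw [hA2c, Nat.card_zpowers, orderOf_involution D.pair.sq D.pair.ne] at hA3c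
  obtain ⟨hca, hca'⟩ := D.fix_a h hc hcu
  have := h.dihedral_bound (m := 3) (j := k - 2 + 1) (by omega) hA3 hA3c hE
    (by rw [hEc, D.F_card, pow_succ]) (fun e => D.F_ne h (le_bot_iff.1 (e ▸ le_sup_left)))
    (sup_le (sup_le (zpowers_le.2 (mem_centralizer_sup D.u_mem_centralizer (mem_centralizer_zpowers hcu.symm)))
      (zpowers_le.2 (mem_centralizer_sup D.a_mem_centralizer (mem_centralizer_zpowers hca.eq.symm))))
      (zpowers_le.2 (mem_centralizer_sup D.a'_mem_centralizer (mem_centralizer_zpowers hca'.eq.symm))))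
  have := h.three_le
  omega

/-! ### Subgroups of exponent `p` -/

namespace Good

variable {D} {L : Subgroup G}

theorem commute_F (hL : D.Good L) {l f : G} (hl : l ∈ L) (hf : f ∈ D.F) : f * l = l * f :=
  mem_centralizer_iff.1 (hL.le_QF hl).2 f hf

theorem fix_F (hL : D.Good L) {g f : G} (hg : g ∈ centralizer (D.F : Set G)) (hf : f ∈ D.F) :
    g * f * g⁻¹ = f := conj_eq_self_iff.2 (mem_centralizer_iff.1 hg f hf).symm

theorem conj_mem (hL : D.Good L) {g l : G} (hg : g ∈ centralizer (D.F : Set G)) (hl : l ∈ L) :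
    g * l * g⁻¹ ∈ L := (mem_normalizer_iff.1 (hL.norm hg) l).1 hl

theorem fixed_u (h : Hyp G p k) (hL : D.Good L) {l : G} (hl : l ∈ L) (hlu : l * D.u = D.u * l) :
    l ∈ D.F := D.mem_F_of_pow h (hL.le_QF hl) hlu (hL.pow_eq l hl)

/-- Split along an involution of `C(F)`. -/
theorem split (h : Hyp G p k) (hL : D.Good L) {g : G} (hg : g ∈ centralizer (D.F : Set G))
    (hg2 : g * g = 1) {l : G} (hl : l ∈ L) :
    ∃ c ∈ L, ∃ i ∈ L, l = c * i ∧ g * c * g⁻¹ = c ∧ g * i * g⁻¹ = i⁻¹ := by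
  obtain ⟨i, hi, hgi, hgc⟩ := exists_fixed_mul_inverted hg2 h.odd_p
    (hL.pow_eq _ (mul_mem (inv_mem hl) (hL.conj_mem hg hl)))
  have hiL : i ∈ L := zpowers_le.2 (mul_mem (inv_mem hl) (hL.conj_mem hg hl)) hi
  exact ⟨l * i⁻¹, mul_mem hl (inv_mem hiL), i, hiL, (inv_mul_cancel_right l i).symm, hgc, hgi⟩

theorem split_u (h : Hyp G p k) (hL : D.Good L) {l : G} (hl : l ∈ L) :
    ∃ f ∈ D.F, ∃ i ∈ L, l = f * i ∧ D.u * i * D.u⁻¹ = i⁻¹ := by
  obtain ⟨c, hc, i, hi, e, hcu, hiu⟩ := hL.split h D.u_mem_centralizer D.pair.sq hl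
  exact ⟨c, hL.fixed_u h hc (conj_eq_self_iff.1 hcu).symm, i, hi, e, hiu⟩

theorem comm_mem_F (h : Hyp G p k) (hL : D.Good L) {e d : G} (he : e ∈ L) (hd : d ∈ L) :
    ⁅e, d⁆ ∈ D.F := by
  obtain ⟨f, hf, i, hi, rfl, hiu⟩ := hL.split_u h he
  obtain ⟨f', hf', j, hj, rfl, hju⟩ := hL.split_u h hd
  have h1 : ∀ f ∈ D.F, ∀ x ∈ L, ⁅f, x⁆ = 1 := fun f hf x hx =>
    commutatorElement_eq_one_iff_mul_comm.2 (hL.commute_F hx hf)
  rw [hL.cls.mul_left (hL.F_le hf) hi (mul_mem (hL.F_le hf') hj), h1 f hf _ (mul_mem (hL.F_le hf') hj),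
    one_mul, hL.cls.mul_right hi (hL.F_le hf') hj, ← commutatorElement_inv f' i, h1 f' hf' i hi, inv_one,
    one_mul]
  refine hL.fixed_u h (L.mul_mem (L.mul_mem (L.mul_mem hi hj) (L.inv_mem hi)) (L.inv_mem hj))
    (conj_eq_self_iff.1 ?_).symm
  show D.u * ⁅i, j⁆ * D.u⁻¹ = ⁅i, j⁆
  rw [conj_commutatorElement', hiu, hju, hL.cls.inv_left hi (inv_mem hj), hL.cls.inv_right hi hj, inv_inv]

theorem eq_one_of_mem_F_inv (h : Hyp G p k) (hL : D.Good L) {f : G} (hf : f ∈ D.F) (e : f = f⁻¹) :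
    f = 1 := eq_one_of_eq_inv h.odd_p (hL.pow_eq f (hL.F_le hf)) e

theorem sign (h : Hyp G p k) (hL : D.Good L) {g e d : G} (hg : g ∈ centralizer (D.F : Set G))
    (he : e ∈ L) (hd : d ∈ L) (hge : g * e * g⁻¹ = e⁻¹) (hgd : g * d * g⁻¹ = d) : Commute e d := by
  refine commutatorElement_eq_one_iff_mul_comm.1 (hL.eq_one_of_mem_F_inv h (hL.comm_mem_F h he hd) ?_)
  conv_lhs => rw [← hL.fix_F hg (hL.comm_mem_F h he hd)]
  rw [conj_commutatorElement', hge, hgd, hL.cls.inv_left he hd]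

/-- Mixing two commuting involutions: no `F`-part. -/
theorem mixed (h : Hyp G p k) (hL : D.Good L) {g t i j f : G} (hg : g ∈ centralizer (D.F : Set G))
    (ht : t ∈ centralizer (D.F : Set G)) (hgt : Commute g t) (hf : f ∈ D.F) (hj : j ∈ L)
    (hi : i = f * j) (hgj : g * j * g⁻¹ = j⁻¹) (hti : t * i * t⁻¹ = i⁻¹) : f = 1 := by
  subst hi
  have hfj : ∀ n : ℤ, Commute (f ^ n) j := fun n => (show Commute f j from hL.commute_F hj hf).zpow_left n
  have htj : t * j * t⁻¹ = f⁻¹ * f⁻¹ * j⁻¹ := by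
    calc t * j * t⁻¹ = (t * f * t⁻¹)⁻¹ * (t * (f * j) * t⁻¹) := by group
      _ = f⁻¹ * (f * j)⁻¹ := by rw [hL.fix_F ht hf, hti]
      _ = f⁻¹ * (j * f)⁻¹ := by rw [hL.commute_F hj hf]
      _ = _ := by group
  have e1 : g * (t * j * t⁻¹) * g⁻¹ = f⁻¹ * f⁻¹ * j := by
    rw [htj]
    calc g * (f⁻¹ * f⁻¹ * j⁻¹) * g⁻¹ = (g * f * g⁻¹)⁻¹ * (g * f * g⁻¹)⁻¹ * (g * j * g⁻¹)⁻¹ := by group
      _ = _ := by rw [hL.fix_F hg hf, hgj, inv_inv]
  have e2 : g * (t * j * t⁻¹) * g⁻¹ = j * (f * f) := by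
    calc g * (t * j * t⁻¹) * g⁻¹ = (g * t) * j * (g * t)⁻¹ := by group
      _ = (t * g) * j * (t * g)⁻¹ := by rw [hgt.eq]
      _ = t * (g * j * g⁻¹) * t⁻¹ := by group
      _ = (t * j * t⁻¹)⁻¹ := by rw [hgj]; group
      _ = _ := by rw [htj]; simp [mul_assoc]
  have e3 : f⁻¹ * f⁻¹ * j = f * f * j := by
    rw [← e1, e2]
    exact (((show Commute j f from (hL.commute_F hj hf).symm).mul_right (hL.commute_F hj hf).symm)).eq
  have e4 : (f * f) = (f * f)⁻¹ := by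
    rw [mul_inv_rev]; exact (mul_right_cancel e3).symm
  have hff := hL.eq_one_of_mem_F_inv h (mul_mem hf hf) e4
  exact hL.eq_one_of_mem_F_inv h hf (eq_inv_of_mul_eq_one_left hff)

theorem exists_v (h : Hyp G p k) (hL : D.Good L) (hbig : ¬ L ≤ D.F) :
    ∃ v ∈ L, v ∉ D.F ∧ D.u * v * D.u⁻¹ = v⁻¹ ∧ Commute D.a v ∧ Commute D.a' v := by
  have hiF : ∀ {l f i : G}, l ∉ D.F → f ∈ D.F → l = f * i → i ∉ D.F :=
    fun hl hf e hi => hl (e ▸ mul_mem hf hi)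
  obtain ⟨l, hl, hlF, hla⟩ : ∃ l ∈ L, l ∉ D.F ∧ Commute D.a l := by
    by_contra! hno
    have hfixa : ∀ c ∈ L, D.a * c * D.a⁻¹ = c → c ∈ D.F := fun c hc e => by
      by_contra hcF
      exact hno c hc hcF (conj_eq_self_iff.1 e)
    obtain ⟨l, hl, hlF⟩ := SetLike.not_le_iff_exists.1 hbig
    obtain ⟨f, hf, i, hi, e, hiu⟩ := hL.split_u h hl
    have hiF' := hiF hlF hf e
    obtain ⟨c, hc, j, hj, e', hca, hja⟩ := hL.split h D.a_mem_centralizer D.a_sq hi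
    have hc1 := hL.mixed h D.a_mem_centralizer D.u_mem_centralizer D.ua.symm (hfixa c hc hca) hj e' hja hiu
    rw [hc1, one_mul] at e'
    subst e'
    set w := D.y₁⁻¹ * i * D.y₁ with hw
    have hwL : w ∈ L := by simpa [hw] using hL.conj_mem (inv_mem D.y₁_mem.2) hi
    have hwa : D.a * w * D.a⁻¹ = w := by
      have e1 : D.y₁ * D.a = D.a * D.u * D.y₁ := mul_inv_eq_iff_eq_mul.1 D.y₁_conj_a
      have e2 : D.y₁ * (D.a * w * D.a⁻¹) * D.y₁⁻¹ = D.a * D.u * i * (D.a * D.u)⁻¹ := by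
        rw [hw, show D.y₁ * (D.a * (D.y₁⁻¹ * i * D.y₁) * D.a⁻¹) * D.y₁⁻¹ =
          (D.y₁ * D.a) * D.y₁⁻¹ * i * ((D.y₁ * D.a) * D.y₁⁻¹)⁻¹ by group, e1]
        group
      have e3 : D.a * D.u * i * (D.a * D.u)⁻¹ = i := by
        calc D.a * D.u * i * (D.a * D.u)⁻¹ = D.a * (D.u * i * D.u⁻¹) * D.a⁻¹ := by group
          _ = (D.a * i * D.a⁻¹)⁻¹ := by rw [hiu]; group
          _ = i := by rw [hja, inv_inv]
      calc D.a * w * D.a⁻¹ = D.y₁⁻¹ * (D.y₁ * (D.a * w * D.a⁻¹) * D.y₁⁻¹) * D.y₁ := by group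
        _ = w := by rw [e2, e3]
    refine hiF' ?_
    have hwF := hfixa w hwL hwa
    have e4 : i = D.y₁ * w * D.y₁⁻¹ := by rw [hw]; group
    rw [e4, hL.fix_F D.y₁_mem.2 hwF]
    exact hwF
  obtain ⟨f, hf, v₀, hv₀, e, hv₀u⟩ := hL.split_u h hl
  have hv₀F := hiF hlF hf e
  have hv₀a : Commute D.a v₀ := by
    have hfa : Commute D.a f := (mem_centralizer_iff.1 D.a_mem_centralizer f hf).symm
    rw [show v₀ = f⁻¹ * l by rw [e, inv_mul_cancel_left]]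
    exact hfa.inv_right.mul_right hla
  obtain ⟨i, hi, hia', hca'⟩ := exists_fixed_mul_inverted D.a'_sq h.odd_p (l := v₀)
    (hL.pow_eq _ (mul_mem (inv_mem hv₀) (hL.conj_mem D.a'_mem_centralizer hv₀)))
  have hiL : i ∈ L := zpowers_le.2 (mul_mem (inv_mem hv₀) (hL.conj_mem D.a'_mem_centralizer hv₀)) hi
  have hia : Commute D.a i := by
    obtain ⟨n, rfl⟩ := mem_zpowers_iff.1 hi
    exact (hv₀a.inv_right.mul_right ((D.a_a'.mul_right hv₀a).mul_right D.a_a'.inv_right)).zpow_right n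
  by_cases hcF : v₀ * i⁻¹ ∈ D.F
  · have hiF' : i ∉ D.F := hiF hv₀F hcF (inv_mul_cancel_right v₀ i).symm
    obtain ⟨f', hf', j, hj, e', hju⟩ := hL.split_u h hiL
    have hf1 := hL.mixed h D.u_mem_centralizer D.a'_mem_centralizer D.ua' hf' hj e' hju hia'
    rw [hf1, one_mul] at e'
    subst e'
    set v := D.x₁ * i * D.x₁⁻¹ with hv
    have hxi : D.x₁⁻¹ * D.a' * D.x₁ = D.a' * D.u := by
      have e1 : D.x₁ * (D.a' * D.u) * D.x₁⁻¹ = D.a' := by
        calc D.x₁ * (D.a' * D.u) * D.x₁⁻¹ = (D.x₁ * D.a' * D.x₁⁻¹) * (D.x₁ * D.u * D.x₁⁻¹) := by group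
          _ = D.a' * D.u * D.u := by
            rw [D.x₁_conj_a', conj_eq_self_iff.2 (D.commute_u D.x₁_mem.1).symm.eq]
          _ = D.a' := by rw [mul_assoc, D.pair.sq, mul_one]
      nth_rewrite 1 [← e1]
      group
    refine ⟨v, hL.conj_mem D.x₁_mem.2 hiL, fun hvF => hiF' ?_, ?_, ?_, ?_⟩
    · have e1 := hL.fix_F (inv_mem D.x₁_mem.2) hvF
      have e2 : i = v := by rw [← e1, hv]; group
      rwa [e2]
    · have hux := D.commute_u D.x₁_mem.1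
      calc D.u * v * D.u⁻¹ = (D.u * D.x₁) * i * (D.u * D.x₁)⁻¹ := by rw [hv]; group
        _ = (D.x₁ * D.u) * i * (D.x₁ * D.u)⁻¹ := by rw [hux.eq]
        _ = D.x₁ * (D.u * i * D.u⁻¹) * D.x₁⁻¹ := by group
        _ = v⁻¹ := by rw [hju, hv]; group
    · exact (D.x₁_a.symm.mul_right hia).mul_right D.x₁_a.symm.inv_right
    · refine conj_eq_self_iff.1 ?_
      calc D.a' * v * D.a'⁻¹ = D.x₁ * ((D.x₁⁻¹ * D.a' * D.x₁) * i * (D.x₁⁻¹ * D.a' * D.x₁)⁻¹) * D.x₁⁻¹ := by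
            rw [hv]; group
        _ = D.x₁ * (D.a' * (D.u * i * D.u⁻¹) * D.a'⁻¹) * D.x₁⁻¹ := by rw [hxi]; group
        _ = D.x₁ * (D.a' * i * D.a'⁻¹)⁻¹ * D.x₁⁻¹ := by rw [hju]; group
        _ = v := by rw [hia', inv_inv]
  · set c := v₀ * i⁻¹ with hc
    have hcL : c ∈ L := mul_mem hv₀ (inv_mem hiL)
    obtain ⟨f', hf', v, hv, e', hvu⟩ := hL.split_u h hcL
    have he : v = f'⁻¹ * c := by rw [e', inv_mul_cancel_left]
    have hfix : ∀ g ∈ centralizer (D.F : Set G), Commute g c → Commute g v := fun g hg hgc => by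
      rw [he]
      exact ((show Commute g f' from (mem_centralizer_iff.1 hg f' hf').symm).inv_right).mul_right hgc
    exact ⟨v, hv, hiF hcF hf' e', hvu, hfix _ D.a_mem_centralizer (hv₀a.mul_right hia.inv_right),
      hfix _ D.a'_mem_centralizer (conj_eq_self_iff.1 hca')⟩

end Good

end Pencil

end Cfsg.Lib.Sig.KlingerMason
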