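import Cfsg.Agent.Lib.Sig.KlingerMason.Basic

/-!
Klinger–Mason, the two-side: for an involution `u` and an elementary abelian `B` of order `p ^ k`
centralizing it, the group `C = [O_2(C(u)), B]` has class two with commutators in `{1, u}`, is covered
by pairwise commuting pieces `C ∩ C(H)` for the hyperplanes `H` of `B`, and this forces `p = 3`.
-/

set_option autoImplicit false

namespace Cfsg.Lib.Sig.KlingerMason

open Subgroup
open scoped commutatorElement

variable {G : Type*} [Group G]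

/-- An involution `u` centralizing the elementary abelian subgroup `B` of order `p ^ k`. -/
structure IsPair (p k : ℕ) (u : G) (B : Subgroup G) : Prop where
  sq : u * u = 1
  ne : u ≠ 1
  elem : Cfsg.IsElementaryAbelian p B
  card : Nat.card B = p ^ k
  le : B ≤ centralizer ({u} : Set G)

/-- `O_2(C(u))`. -/
def TT (u : G) : Subgroup G := Cfsg.pCoreOf 2 (centralizer ({u} : Set G))

/-- `[O_2(C(u)), B]`. -/
def CC (u : G) (B : Subgroup G) : Subgroup G := ⁅TT u, B⁆

/-- The centre of `[O_2(C(u)), B]`. -/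
def ZC (u : G) (B : Subgroup G) : Subgroup G := CC u B ⊓ centralizer (CC u B : Set G)

/-- The fixed points of the hyperplane `H` in `[O_2(C(u)), B]`. -/
def WW (u : G) (B H : Subgroup G) : Subgroup G := CC u B ⊓ centralizer (H : Set G)

/-- A hyperplane acting with nontrivial piece. -/
structure IsGood (p k : ℕ) (u : G) (B H : Subgroup G) : Prop where
  le : H ≤ B
  card : Nat.card H = p ^ (k - 1)
  big : ¬ WW u B H ≤ ZC u B

variable [Finite G] {p k : ℕ} [hp : Fact p.Prime] {u : G} {B : Subgroup G}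

theorem TT_isPGroup (u : G) : IsPGroup 2 (TT u) := Cfsg.Lib.Local.pCoreOf_isPGroup _

theorem TT_le (u : G) : TT u ≤ centralizer ({u} : Set G) := Cfsg.Lib.Local.pCoreOf_le _

theorem centralizer_le_normalizer_TT (u : G) :
    centralizer ({u} : Set G) ≤ normalizer (TT u : Set G) :=
  Cfsg.Lib.Local.le_normalizer_pCoreOf _

theorem eq_one_of_mem_TT_of_mem {P : Subgroup G} (h : Hyp G p k) (hP : IsPGroup p P) {x : G}
    (hx : x ∈ TT u) (hxP : x ∈ P) : x = 1 := by
  have := disjoint_of_coprime_natCard (h.coprime_card (TT_isPGroup u) hP)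
  exact mem_bot.1 (this.le_bot ⟨hx, hxP⟩)

theorem mul_inv_comm_of_conj {x g : G} (h : g * x * g⁻¹ = x) : ⁅x, g⁆ = 1 := by
  rw [commutatorElement_eq_one_iff_mul_comm]
  exact (conj_eq_self_iff.1 h).symm

namespace IsPair

theorem CC_le (P : IsPair p k u B) : CC u B ≤ TT u :=
  Coprime.commutator_le_of_le_normalizer (P.le.trans (centralizer_le_normalizer_TT u))

theorem B_isPGroup (P : IsPair p k u B) : IsPGroup p B := PGroup.isPGroup_of_isElementaryAbelian P.elem

theorem u_mem_TT (P : IsPair p k u B) : u ∈ TT u :=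
  Cfsg.Lib.Local.le_pCoreOf (N := zpowers u) (zpowers_le.2 (mem_centralizer_singleton_iff.2 rfl))
    (normalizer_zpowers_involution P.sq P.ne).ge (isPGroup_zpowers_involution P.sq P.ne) (mem_zpowers u)

theorem mem_TT_of_centralizes (P : IsPair p k u B) (h : Hyp G p k) {x : G}
    (hx : x ∈ centralizer ({u} : Set G)) (hxT : x ∈ centralizer (TT u : Set G)) : x ∈ TT u := by
  have h2 := h.char2 (zpowers u) (isPGroup_zpowers_involution P.sq P.ne)
    fun e => P.ne (zpowers_eq_bot.1 e)
  rw [normalizer_zpowers_involution P.sq P.ne] at h2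
  exact h2 ⟨hx, hxT⟩

theorem commute_u_TT (P : IsPair p k u B) {x : G} (hx : x ∈ TT u) : u * x = x * u :=
  (mem_centralizer_singleton_iff.1 (TT_le u hx)).symm

theorem eq_u_of_fixed (P : IsPair p k u B) (h : Hyp G p k) {v : G} (hv : v ∈ TT u)
    (hvB : v ∈ centralizer (B : Set G)) (hv2 : v * v = 1) : v = 1 ∨ v = u := by
  by_contra! hne
  exact h.no_four P.elem P.card P.sq hv2 P.ne hne.1 hne.2 (P.commute_u_TT hv) P.le
    fun b hb => mem_centralizer_singleton_iff.2 (mem_centralizer_iff.1 hvB b hb)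

theorem le_centralizer_of_abelian (P : IsPair p k u B) (h : Hyp G p k) {A : Subgroup G}
    (hAT : A ≤ TT u) (hA : A ≤ centralizer (A : Set G)) (hBA : B ≤ normalizer (A : Set G)) :
    A ≤ centralizer (B : Set G) := by
  rw [← commutator_eq_bot_iff_le_centralizer]
  by_contra hne
  haveI : IsMulCommutative A :=
    ⟨⟨fun x y => Subtype.ext (mem_centralizer_iff.1 (hA y.2) x x.2)⟩⟩
  have hA2 : IsPGroup 2 A := (TT_isPGroup u).to_le hAT
  have hcop : (Nat.card B).Coprime (Nat.card A) := (h.coprime_card hA2 P.B_isPGroup).symm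
  have hd := Coprime.disjoint_commutator_centralizer hBA hcop
  have hle : ⁅A, B⁆ ≤ A := Coprime.commutator_le_of_le_normalizer hBA
  obtain ⟨H, z, z', hHB, hHc, hz, hz', hzz, hz'z', hz1, hz'1, hne', hcomm, hzH, hz'H⟩ :=
    h.exists_moved P.elem P.card (hA2.to_le hle) hne (normalizer_commutator_ge_right A B)
      (disjoint_iff.1 hd)
  obtain ⟨hA4, hA4c⟩ := elem_four hzz hz'z' hz1 hz'1 hne' hcomm
  have huA : u ∉ zpowers z ⊔ zpowers z' := by
    intro hm
    have : u ∈ ⁅A, B⁆ := sup_le (zpowers_le.2 hz) (zpowers_le.2 hz') hm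
    refine P.ne (mem_bot.1 (hd.le_bot ⟨this, mem_centralizer_iff.2 fun b hb => ?_⟩))
    exact mem_centralizer_singleton_iff.1 (P.le hb)
  have hu : u ∈ centralizer ((zpowers z ⊔ zpowers z' : Subgroup G) : Set G) :=
    mem_centralizer_sup (mem_centralizer_zpowers (P.commute_u_TT (hAT (hle hz))))
      (mem_centralizer_zpowers (P.commute_u_TT (hAT (hle hz'))))
  obtain ⟨hA8, hA8c⟩ := elem_adjoin hA4 (y := u) (by rw [pow_two, P.sq]) hu huA
  have := h.dihedral_bound (m := 3) (by omega) hA8 (by rw [hA8c, hA4c]; rfl)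
    (PGroup.isElementaryAbelian_of_le P.elem hHB) hHc
    (ne_bot_of_card (by have := h.three_le; omega) hHc)
    (sup_le (sup_le (zpowers_le.2 hzH) (zpowers_le.2 hz'H))
      (zpowers_le.2 (mem_centralizer_iff.2 fun y hy => mem_centralizer_singleton_iff.1 (P.le (hHB hy)))))
  have := h.three_le
  omega

theorem B_le_normalizer_CC (P : IsPair p k u B) : B ≤ normalizer (CC u B : Set G) :=
  normalizer_commutator_ge_right (TT u) B

theorem TT_le_normalizer_CC (P : IsPair p k u B) : TT u ≤ normalizer (CC u B : Set G) :=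
  normalizer_commutator_ge_left (TT u) B

theorem CC_isPGroup (P : IsPair p k u B) : IsPGroup 2 (CC u B) := (TT_isPGroup u).to_le P.CC_le

theorem coprime_TT (P : IsPair p k u B) (h : Hyp G p k) :
    (Nat.card B).Coprime (Nat.card (TT u)) := (h.coprime_card (TT_isPGroup u) P.B_isPGroup).symm

theorem solvable_B (P : IsPair p k u B) : Group.IsSolvable B :=
  Group.isSolvable_of_comm fun a b => P.elem.1.1.comm a b

theorem CC_commutator (P : IsPair p k u B) (h : Hyp G p k) : ⁅CC u B, B⁆ = CC u B :=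
  Coprime.commutator_commutator_eq (P.le.trans (centralizer_le_normalizer_TT u)) (P.coprime_TT h)
    (Or.inl P.solvable_B)

theorem eq_one_of_mem_B (P : IsPair p k u B) (h : Hyp G p k) {b : G} (hb : b ∈ B)
    (hbC : b ∈ centralizer (CC u B : Set G)) : b = 1 := by
  have hz : zpowers b ≤ B := zpowers_le.2 hb
  have hcop : (Nat.card (zpowers b)).Coprime (Nat.card (TT u)) :=
    (h.coprime_card (TT_isPGroup u) (P.B_isPGroup.to_le hz)).symm
  have hT : ⁅TT u, zpowers b⁆ = ⊥ :=
    Coprime.commutator_eq_bot_of_stabilizes (hz.trans (P.le.trans (centralizer_le_normalizer_TT u))) hcop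
      (Or.inl (Coprime.isSolvable_of_le hz P.solvable_B)) (commutator_mono le_rfl hz)
      (commutator_eq_bot_iff_le_centralizer.2 (le_centralizer_iff.1 (zpowers_le.2 hbC)))
  rw [commutator_comm, commutator_eq_bot_iff_le_centralizer] at hT
  exact eq_one_of_mem_TT_of_mem h P.B_isPGroup
    (P.mem_TT_of_centralizes h (P.le hb) (hT (mem_zpowers b))) hb

theorem CC_ne_bot (P : IsPair p k u B) (h : Hyp G p k) : CC u B ≠ ⊥ := by
  intro e
  refine ne_bot_of_card (p := p) (i := k) (by have := h.three_le; omega) P.card ?_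
  rw [eq_bot_iff]
  exact fun b hb => mem_bot.2 (P.eq_one_of_mem_B h hb (by rw [e]; simp [mem_centralizer_iff]))

theorem central_of_abelian (P : IsPair p k u B) (h : Hyp G p k) {D : Subgroup G}
    (hDC : D ≤ CC u B) (hD : D ≤ centralizer (D : Set G)) (hBD : B ≤ normalizer (D : Set G))
    (hCD : CC u B ≤ normalizer (D : Set G)) : D ≤ centralizer (CC u B : Set G) := by
  have hDB : ⁅D, B⁆ = ⊥ := commutator_eq_bot_iff_le_centralizer.2
    (P.le_centralizer_of_abelian h (hDC.trans P.CC_le) hD hBD)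
  have h1 : ⁅⁅B, D⁆, CC u B⁆ = ⊥ := by rw [commutator_comm B D, hDB]; exact commutator_bot_left _
  have h2 : ⁅⁅D, CC u B⁆, B⁆ = ⊥ := le_bot_iff.1
    ((commutator_mono (Coprime.commutator_le_of_le_normalizer hCD) le_rfl).trans hDB.le)
  have h3 := commutator_commutator_eq_bot_of_rotate h1 h2
  rw [P.CC_commutator h] at h3
  exact le_centralizer_iff.1 (commutator_eq_bot_iff_le_centralizer.1 h3)

theorem classTwo (P : IsPair p k u B) (h : Hyp G p k) : ClassTwo (CC u B) := by
  set C := CC u B with hC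
  let Z := ZC u B
  have hnZ : normalizer (C : Set G) ≤ normalizer (Z : Set G) :=
    Cfsg.Lib.Local.le_normalizer_inf le_rfl (Cfsg.Lib.Local.normalizer_le_normalizer_centralizer _)
  set S := C ⊓ Cfsg.Lib.Local.chainStab C Z with hS
  have hS1 : ⁅C, S⁆ ≤ Z :=
    (Cfsg.Lib.Local.le_chainStab_iff.1 (inf_le_right : S ≤ Cfsg.Lib.Local.chainStab C Z)).2
  have hnS : normalizer (C : Set G) ≤ normalizer (S : Set G) :=
    Cfsg.Lib.Local.le_normalizer_inf le_rfl
      ((le_inf le_rfl hnZ).trans (Cfsg.Lib.Local.normalizer_inf_le_normalizer_chainStab _ _))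
  have hZC : ⁅Z, C⁆ = ⊥ := commutator_eq_bot_iff_le_centralizer.2 inf_le_right
  have hSC : ⁅⁅C, C⁆, S⁆ = ⊥ := by
    refine commutator_commutator_eq_bot_of_rotate ?_ ?_
    · exact le_bot_iff.1 ((commutator_mono hS1 le_rfl).trans hZC.le)
    · exact le_bot_iff.1 ((commutator_mono ((commutator_comm S C).le.trans hS1) le_rfl).trans hZC.le)
  set D := ⁅C, C⁆ ⊓ S with hD
  have hnD : normalizer (C : Set G) ≤ normalizer (D : Set G) := by
    refine Cfsg.Lib.Local.le_normalizer_inf ?_ hnS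
    intro g hg
    rw [mem_normalizer_iff_map_conj_eq, map_commutator, mem_normalizer_iff_map_conj_eq.1 hg]
  have hDZ : D ≤ Z := le_inf (inf_le_right.trans inf_le_left) (P.central_of_abelian h
    (inf_le_right.trans inf_le_left)
    ((inf_le_left.trans (commutator_eq_bot_iff_le_centralizer.1 hSC)).trans (centralizer_le inf_le_right))
    (P.B_le_normalizer_CC.trans hnD) (le_normalizer.trans hnD))
  have key : ∀ E : Subgroup G, E ≤ ⁅C, C⁆ → C ≤ normalizer (E : Set G) → E ≤ Z := by
    intro E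
    induction E using WellFoundedLT.induction with
    | _ E ih =>
    intro hE hCE
    by_cases hE1 : E = ⊥
    · rw [hE1]; exact bot_le
    have hEC : E ≤ C := hE.trans (Coprime.commutator_le_of_le_normalizer le_normalizer)
    have hlt := PGroup.commutator_lt_of_isPGroup (P.CC_isPGroup.to_le hEC) P.CC_isPGroup hCE hE1
    have h1 := ih _ hlt (hlt.le.trans hE) (normalizer_commutator_ge_right E C)
    refine (le_inf hE (le_inf hEC ?_)).trans hDZ
    rw [Cfsg.Lib.Local.le_chainStab_iff]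
    exact ⟨(hEC.trans le_normalizer).trans hnZ, (commutator_comm C E).le.trans h1⟩
  have hCC : ⁅C, C⁆ ≤ Z := key _ le_rfl (normalizer_commutator_ge_right C C)
  intro a ha b hb c hc
  exact mem_centralizer_iff.1 (hCC (commutator_mem_commutator ha hb)).2 c hc

theorem ZC_fixed (P : IsPair p k u B) (h : Hyp G p k) : ZC u B ≤ centralizer (B : Set G) :=
  P.le_centralizer_of_abelian h (inf_le_left.trans P.CC_le)
    (inf_le_right.trans (centralizer_le inf_le_left))
    (P.B_le_normalizer_CC.trans (Cfsg.Lib.Local.le_normalizer_inf le_rfl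
      (Cfsg.Lib.Local.normalizer_le_normalizer_centralizer _)))

theorem comm_sq (P : IsPair p k u B) (h : Hyp G p k) {x y : G} (hx : x ∈ CC u B) (hy : y ∈ CC u B) :
    ⁅x, y⁆ ^ 2 = 1 := by
  have hC := P.classTwo h
  set C := CC u B with hCdef
  obtain ⟨N, hN⟩ := P.CC_isPGroup.exists_card_eq
  have hpow : ∀ a ∈ C, a ^ 2 ^ N = 1 := fun a ha =>
    congrArg Subtype.val (show (⟨a, ha⟩ : C) ^ 2 ^ N = 1 by rw [← hN]; exact pow_card_eq_one')
  have key : ∀ j, j ≤ N → ∀ a ∈ C, ∀ b ∈ C, ⁅a, b⁆ ^ 2 ^ (max 1 (N - j)) = 1 := by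
    intro j
    induction j with
    | zero =>
      intro _ a ha b hb
      rw [← hC.pow_left ha hb]
      obtain ⟨e, he⟩ := Nat.exists_eq_add_of_le (le_max_right 1 (N - 0))
      rw [he, Nat.sub_zero, pow_add 2, pow_mul, hpow a ha, one_pow, commutatorElement_one_left]
    | succ j ih =>
      intro hj a ha b hb
      by_cases hsmall : N - j ≤ 1
      · have := ih (by omega) a ha b hb
        rwa [max_eq_left (show N - (j + 1) ≤ 1 by omega), ← max_eq_left hsmall]
      set n := N - j with hn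
      have ih' : ∀ a ∈ C, ∀ b ∈ C, ⁅a, b⁆ ^ 2 ^ n = 1 := fun a ha b hb => by
        have := ih (by omega) a ha b hb
        rwa [max_eq_right (show 1 ≤ n by omega)] at this
      set m := 2 ^ (n - 1) with hm
      set X := (fun x => x ^ m) '' (C : Set G) with hX
      have hXC : closure X ≤ C := (closure_le _).2 (by rintro _ ⟨x, hx, rfl⟩; exact pow_mem hx m)
      have hinv : ∀ g ∈ normalizer (C : Set G), g ∈ normalizer (closure X : Set G) := by
        intro g hg
        rw [mem_normalizer_iff_map_conj_eq, MonoidHom.map_closure]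
        congr 1
        ext w
        constructor
        · rintro ⟨_, ⟨x, hx, rfl⟩, rfl⟩
          exact ⟨g * x * g⁻¹, (mem_normalizer_iff.1 hg x).1 hx, by simp [conj_pow]⟩
        · rintro ⟨x, hx, rfl⟩
          refine ⟨(g⁻¹ * x * g) ^ m, ⟨_, (mem_normalizer_iff''.1 hg x).1 hx, rfl⟩, ?_⟩
          show g * (g⁻¹ * x * g) ^ m * g⁻¹ = x ^ m
          rw [← conj_pow, mul_assoc g⁻¹, mul_inv_cancel_left, mul_inv_cancel_right]
      have hab : closure X ≤ centralizer (closure X : Set G) := by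
        rw [centralizer_closure, closure_le]
        rintro _ ⟨x, hx, rfl⟩
        refine mem_centralizer_iff.2 ?_
        rintro _ ⟨y, hy, rfl⟩
        refine (commutatorElement_eq_one_iff_mul_comm.1 ?_)
        rw [hC.pow_left hy (pow_mem hx m), hC.pow_right hy hx, ← pow_mul, hm, ← pow_add,
          show n - 1 + (n - 1) = n + (n - 2) by omega, pow_add 2 n, pow_mul, ih' y hy x hx, one_pow]
      have hcent := P.central_of_abelian h hXC hab
        (fun g hg => hinv g (P.B_le_normalizer_CC hg)) (fun g hg => hinv g (le_normalizer hg))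
      rw [show N - (j + 1) = n - 1 by omega, max_eq_right (show 1 ≤ n - 1 by omega), ← hm,
        ← hC.pow_left ha hb]
      exact commutatorElement_eq_one_iff_mul_comm.2
        (mem_centralizer_iff.1 (hcent (subset_closure ⟨a, ha, rfl⟩)) b hb).symm
  have := key N le_rfl x hx y hy
  rwa [Nat.sub_self, max_eq_left (Nat.zero_le _), pow_one] at this

theorem comm_mem (P : IsPair p k u B) (h : Hyp G p k) {x y : G} (hx : x ∈ CC u B) (hy : y ∈ CC u B) :
    ⁅x, y⁆ = 1 ∨ ⁅x, y⁆ = u := by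
  have hC : ⁅x, y⁆ ∈ CC u B :=
    Coprime.commutator_le_of_le_normalizer le_normalizer (commutator_mem_commutator hx hy)
  have hz : ⁅x, y⁆ ∈ ZC u B :=
    ⟨hC, mem_centralizer_iff.2 fun c hc => P.classTwo h x hx y hy c hc⟩
  exact P.eq_u_of_fixed h (P.CC_le hC) (P.ZC_fixed h hz) (by rw [← pow_two]; exact P.comm_sq h hx hy)

theorem comm_symm (P : IsPair p k u B) (h : Hyp G p k) {x y : G} (hx : x ∈ CC u B) (hy : y ∈ CC u B) :
    ⁅y, x⁆ = ⁅x, y⁆ := by
  rw [← commutatorElement_inv x y]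
  rcases P.comm_mem h hx hy with e | e <;> rw [e]
  · exact inv_one
  · exact inv_eq_of_mul_eq_one_right P.sq

theorem comm_mul_self (P : IsPair p k u B) (h : Hyp G p k) {x y : G} (hx : x ∈ CC u B) (hy : y ∈ CC u B) :
    ⁅x, y⁆ * ⁅x, y⁆ = 1 := by rw [← pow_two]; exact P.comm_sq h hx hy

theorem sq_mem_ZC (P : IsPair p k u B) (h : Hyp G p k) {x : G} (hx : x ∈ CC u B) : x * x ∈ ZC u B := by
  refine ⟨mul_mem hx hx, mem_centralizer_iff.2 fun c hc => ?_⟩
  refine (commutatorElement_eq_one_iff_mul_comm.1 ?_).symm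
  rw [← pow_two, (P.classTwo h).pow_left hx hc]
  exact P.comm_sq h hx hc

theorem comm_conj (P : IsPair p k u B) (h : Hyp G p k) {x y g : G} (hx : x ∈ CC u B)
    (hy : y ∈ CC u B) (hg : g * u * g⁻¹ = u) : ⁅g * x * g⁻¹, g * y * g⁻¹⁆ = ⁅x, y⁆ := by
  rw [← conj_commutatorElement']
  rcases P.comm_mem h hx hy with e | e <;> rw [e]
  · simp
  · exact hg

theorem fix_u (P : IsPair p k u B) {b : G} (hb : b ∈ B) : b * u * b⁻¹ = u :=
  conj_eq_self_iff.2 (mem_centralizer_singleton_iff.1 (P.le hb))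

/-- An element of `C` centralized by `B` modulo the centre is central. -/
theorem mem_ZC_of (P : IsPair p k u B) (h : Hyp G p k) {c : G} (hc : c ∈ CC u B)
    (hcb : ∀ b ∈ B, b * c * b⁻¹ * c⁻¹ ∈ ZC u B) : c ∈ ZC u B := by
  have hC := P.classTwo h
  refine ⟨hc, ?_⟩
  show c ∈ centralizer (CC u B : Set G)
  rw [← zpowers_le, le_centralizer_iff, ← P.CC_commutator h, commutator_le]
  intro d hd b hb
  refine mem_centralizer_zpowers ?_
  refine (commutatorElement_eq_one_iff_mul_comm.1 ?_).symm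
  have hd' : b * d * b⁻¹ ∈ CC u B := (mem_normalizer_iff.1 (P.B_le_normalizer_CC hb) d).1 hd
  rw [commutatorElement_def d b, show d * b * d⁻¹ * b⁻¹ = d * (b * d * b⁻¹)⁻¹ by group,
    hC.mul_right hc hd (inv_mem hd'), hC.inv_right hc hd']
  have e : ⁅c, b * d * b⁻¹⁆ = ⁅c, d⁆ := by
    conv_rhs => rw [← P.comm_conj h hc hd (P.fix_u hb)]
    have hz : ⁅b * c * b⁻¹ * c⁻¹, b * d * b⁻¹⁆ = 1 :=
      commutatorElement_eq_one_iff_mul_comm.2 (mem_centralizer_iff.1 (hcb b hb).2 _ hd').symm
    have hcc : b * c * b⁻¹ = b * c * b⁻¹ * c⁻¹ * c := by group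
    rw [hcc, hC.mul_left (hcb b hb).1 hc hd', hz, one_mul]
  rw [e, mul_inv_cancel]

theorem fixed_le (P : IsPair p k u B) (h : Hyp G p k) :
    CC u B ⊓ centralizer (B : Set G) ≤ ZC u B := fun c hc =>
  P.mem_ZC_of h hc.1 fun b hb => by
    rw [mem_centralizer_iff.1 hc.2 b hb, mul_inv_cancel_right, mul_inv_cancel]; exact one_mem _

theorem ZC_le_WW (P : IsPair p k u B) (h : Hyp G p k) {H : Subgroup G} (hH : H ≤ B) :
    ZC u B ≤ WW u B H := le_inf inf_le_left ((P.ZC_fixed h).trans (centralizer_le hH))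

theorem sup_zpowers_eq (P : IsPair p k u B) (h : Hyp G p k) {H : Subgroup G} (hH : H ≤ B)
    (hHc : Nat.card H = p ^ (k - 1)) {y : G} (hy : y ∈ B) (hyH : y ∉ H) : H ⊔ zpowers y = B := by
  obtain ⟨-, hc⟩ := elem_adjoin (PGroup.isElementaryAbelian_of_le P.elem hH) (P.elem.2 y hy)
    (mem_centralizer_iff.2 fun e he => comm_of_elem P.elem (hH he) hy) hyH
  refine eq_of_le_of_card_ge (sup_le hH (zpowers_le.2 hy)) ?_
  rw [hc, hHc, ← pow_succ, P.card, show k - 1 + 1 = k by have := h.three_le; omega]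

theorem exists_not_mem (P : IsPair p k u B) {H H' : Subgroup G} (hc : Nat.card H = p ^ (k - 1))
    (hc' : Nat.card H' = p ^ (k - 1)) (hne : H ≠ H') : ∃ y ∈ H', y ∉ H := by
  by_contra! hle
  exact hne (eq_of_le_of_card_ge hle (by rw [hc, hc'])).symm

theorem sup_eq (P : IsPair p k u B) (h : Hyp G p k) {H H' : Subgroup G} (hH : H ≤ B)
    (hc : Nat.card H = p ^ (k - 1)) (hH' : H' ≤ B) (hc' : Nat.card H' = p ^ (k - 1)) (hne : H ≠ H') :
    H ⊔ H' = B := by
  obtain ⟨y, hy, hyH⟩ := P.exists_not_mem hc hc' hne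
  refine le_antisymm (sup_le hH hH') ?_
  rw [← P.sup_zpowers_eq h hH hc (hH' hy) hyH]
  exact sup_le_sup_left (zpowers_le.2 hy) _

theorem WW_inf (P : IsPair p k u B) (h : Hyp G p k) {H : Subgroup G} (hH : H ≤ B)
    (hc : Nat.card H = p ^ (k - 1)) {y : G} (hy : y ∈ B) (hyH : y ∉ H) :
    WW u B H ⊓ centralizer ({y} : Set G) = ZC u B := by
  refine le_antisymm (fun x hx => P.fixed_le h ⟨hx.1.1, ?_⟩) (le_inf (P.ZC_le_WW h hH) fun x hx =>
    mem_centralizer_singleton_iff.2 (mem_centralizer_iff.1 (P.ZC_fixed h hx) y hy).symm)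
  rw [← P.sup_zpowers_eq h hH hc hy hyH]
  exact mem_centralizer_sup hx.1.2 (mem_centralizer_zpowers (mem_centralizer_singleton_iff.1 hx.2))

theorem WW_inf_WW (P : IsPair p k u B) (h : Hyp G p k) {H H' : Subgroup G} (hH : H ≤ B)
    (hc : Nat.card H = p ^ (k - 1)) (hH' : H' ≤ B) (hc' : Nat.card H' = p ^ (k - 1)) (hne : H ≠ H') :
    WW u B H ⊓ WW u B H' = ZC u B := by
  refine le_antisymm (fun x hx => P.fixed_le h ⟨hx.1.1, ?_⟩) (le_inf (P.ZC_le_WW h hH) (P.ZC_le_WW h hH'))
  rw [← P.sup_eq h hH hc hH' hc' hne]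
  exact mem_centralizer_sup hx.1.2 hx.2.2

theorem B_le_normalizer_WW (P : IsPair p k u B) {H : Subgroup G} (hH : H ≤ B) :
    B ≤ normalizer (WW u B H : Set G) :=
  Cfsg.Lib.Local.le_normalizer_inf P.B_le_normalizer_CC
    (((le_centralizer_self P.elem).trans (centralizer_le hH)).trans le_normalizer)

theorem WW_commute (P : IsPair p k u B) (h : Hyp G p k) {H H' : Subgroup G} (hH : H ≤ B)
    (hc : Nat.card H = p ^ (k - 1)) (hH' : H' ≤ B) (hc' : Nat.card H' = p ^ (k - 1)) (hne : H ≠ H') :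
    WW u B H' ≤ centralizer (WW u B H : Set G) := by
  have hC := P.classTwo h
  intro w hw
  obtain ⟨n, hn, c, hcc, rfl⟩ := Coprime.le_commutator_sup_centralizer (P.B_le_normalizer_WW hH')
    (Coprime.coprime_of_le (inf_le_left.trans P.CC_le) (P.coprime_TT h)) (Or.inl P.solvable_B) hw
  refine mul_mem ?_ ((centralizer_le inf_le_left) (P.fixed_le h ⟨hcc.1.1, hcc.2⟩).2)
  refine (?_ : ⁅WW u B H', B⁆ ≤ centralizer (WW u B H : Set G)) hn
  rw [commutator_le]
  intro w hw b hb
  have hsup := P.sup_eq h hH hc hH' hc' hne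
  have hHH' : H ≤ normalizer (H' : Set G) :=
    ((hH.trans (le_centralizer_self P.elem)).trans (centralizer_le hH')).trans (centralizer_le_normalizer _)
  rw [← hsup, Cfsg.Lib.Core.mem_sup_of_le_normalizer hHH'] at hb
  obtain ⟨g, hg, g', hg', rfl⟩ := hb
  have e : ⁅w, g * g'⁆ = w * (g * w * g⁻¹)⁻¹ := by
    have := mem_centralizer_iff.1 hw.2 g' hg'
    rw [commutatorElement_def]
    calc w * (g * g') * w⁻¹ * (g * g')⁻¹ = w * g * (g' * w⁻¹) * g'⁻¹ * g⁻¹ := by group
      _ = w * g * (w⁻¹ * g') * g'⁻¹ * g⁻¹ := by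
        rw [(show Commute g' w from this).inv_right.eq]
      _ = w * (g * w * g⁻¹)⁻¹ := by group
  rw [e]
  refine mem_centralizer_iff.2 fun x hx => ?_
  have hgw : g * w * g⁻¹ ∈ CC u B := (mem_normalizer_iff.1 (P.B_le_normalizer_CC (hH hg)) w).1 hw.1
  refine commutatorElement_eq_one_iff_mul_comm.1 ?_
  rw [hC.mul_right hx.1 hw.1 (inv_mem hgw), hC.inv_right hx.1 hgw]
  conv_lhs => rw [← P.comm_conj h hx.1 hw.1 (P.fix_u (hH hg)),
    conj_eq_self_iff.2 (mem_centralizer_iff.1 hx.2 g hg)]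
  exact mul_inv_cancel _

theorem exists_good (P : IsPair p k u B) (h : Hyp G p k) {z : G} (hz : z ∈ B) (hz1 : z ≠ 1) :
    ∃ H, IsGood p k u B H ∧ z ∉ H := by
  by_contra! hall
  haveI := P.elem.1
  refine hz1 (P.eq_one_of_mem_B h hz ?_)
  have hgen := Coprime.le_iSup_centralizer_cocyclic (CC u B) P.B_le_normalizer_CC
    (Coprime.coprime_of_le P.CC_le (P.coprime_TT h))
  rw [← zpowers_le, le_centralizer_iff]
  refine hgen.trans (iSup₂_le fun H hH => fun x hx => mem_centralizer_zpowers ?_)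
  have hxB : x ∈ ZC u B → x * z = z * x := fun hx' =>
    (mem_centralizer_iff.1 (P.ZC_fixed h hx') z hz).symm
  by_cases hHB : H = B
  · subst hHB
    exact (mem_centralizer_iff.1 hx.2 z hz).symm
  by_cases hbig : WW u B H ≤ ZC u B
  · exact hxB (hbig hx)
  · exact (mem_centralizer_iff.1 hx.2 z (hall H ⟨hH.1, card_cocyclic P.elem P.card hH hHB, hbig⟩)).symm

theorem exists_good_pair (P : IsPair p k u B) (h : Hyp G p k) {z : G} (hz : z ∈ B) (hz1 : z ≠ 1) :
    ∃ H H', IsGood p k u B H ∧ IsGood p k u B H' ∧ z ∉ H ∧ H ≠ H' := by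
  obtain ⟨H, hH, hzH⟩ := P.exists_good h hz hz1
  obtain ⟨y, hy, hy1⟩ := H.bot_or_exists_ne_one.resolve_left
    (ne_bot_of_card (p := p) (by have := h.three_le; omega) hH.card)
  obtain ⟨H', hH', hyH'⟩ := P.exists_good h (hH.le hy) hy1
  exact ⟨H, H', hH, hH', hzH, fun e => hyH' (e ▸ hy)⟩

theorem card_inf (P : IsPair p k u B) (h : Hyp G p k) {H H' : Subgroup G} (hH : H ≤ B)
    (hc : Nat.card H = p ^ (k - 1)) (hH' : H' ≤ B) (hc' : Nat.card H' = p ^ (k - 1)) (hne : H ≠ H') :
    Nat.card ↥(H ⊓ H') = p ^ (k - 2) := by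
  have := card_sup_mul_inf (A := H) (B := H')
    (((hH'.trans (le_centralizer_self P.elem)).trans (centralizer_le hH)).trans (centralizer_le_normalizer _))
  rw [P.sup_eq h hH hc hH' hc' hne, P.card, hc, hc', ← pow_add,
    show k - 1 + (k - 1) = k + (k - 2) by have := h.three_le; omega, pow_add] at this
  exact Nat.eq_of_mul_eq_mul_left (pow_pos hp.out.pos k) this

theorem card_WW (P : IsPair p k u B) (h : Hyp G p k) {H : Subgroup G} (hH : IsGood p k u B H) :
    ∃ e, 1 ≤ e ∧ Nat.card (WW u B H) = 2 ^ e * Nat.card (ZC u B) ∧ 2 ^ e ≡ 1 [MOD p] := by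
  obtain ⟨c, hc⟩ := card_dvd_of_le (P.ZC_le_WW h hH.le)
  have hW2 : IsPGroup 2 (WW u B H) := P.CC_isPGroup.to_le inf_le_left
  obtain ⟨n, hn⟩ := hW2.exists_card_eq
  obtain ⟨e, -, rfl⟩ := (Nat.dvd_prime_pow Nat.prime_two).1 (show c ∣ 2 ^ n from hn ▸ hc ▸ dvd_mul_left _ _)
  have he : 1 ≤ e := by
    by_contra he
    rw [show e = 0 by omega, pow_zero, mul_one] at hc
    exact hH.big (eq_of_le_of_card_ge (P.ZC_le_WW h hH.le) hc.le).ge
  refine ⟨e, he, by rw [hc, mul_comm], ?_⟩
  obtain ⟨b, hb, hbH⟩ : ∃ b ∈ B, b ∉ H := by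
    by_contra! hle
    have := card_le_of_le (show B ≤ H from hle)
    rw [P.card, hH.card, Nat.pow_le_pow_iff_right hp.out.one_lt] at this
    have := h.three_le
    omega
  have hbN : zpowers b ≤ normalizer (WW u B H : Set G) := (zpowers_le.2 hb).trans (P.B_le_normalizer_WW hH.le)
  letI : MulAction ↥(zpowers b) ↥(WW u B H) :=
    { smul := fun g x => ⟨g * x * (g : G)⁻¹, (mem_normalizer_iff.1 (hbN g.2) x).1 x.2⟩
      one_smul := fun x => Subtype.ext (by show ((1 : ↥(zpowers b)) : G) * x * _ = _; simp)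
      mul_smul := fun g g' x => Subtype.ext (by
        show ((g * g' : ↥(zpowers b)) : G) * x * _ = g * (g' * x * (g' : G)⁻¹) * (g : G)⁻¹
        simp [mul_assoc]) }
  have hmod := (P.B_isPGroup.to_le (zpowers_le.2 hb)).card_modEq_card_fixedPoints (WW u B H)
  have hfix : Nat.card (MulAction.fixedPoints ↥(zpowers b) ↥(WW u B H)) = Nat.card (ZC u B) := by
    refine Nat.card_congr
      { toFun := fun x => ⟨x.1, ?_⟩
        invFun := fun z => ⟨⟨z, P.ZC_le_WW h hH.le z.2⟩, fun g => Subtype.ext ?_⟩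
        left_inv := fun x => rfl
        right_inv := fun x => rfl }
    · rw [← P.WW_inf h hH.le hH.card hb hbH]
      refine ⟨x.1.2, mem_centralizer_singleton_iff.2 (conj_eq_self_iff.1 ?_).symm⟩
      exact congrArg Subtype.val (x.2 ⟨b, mem_zpowers b⟩)
    · exact conj_eq_self_iff.2 (mem_centralizer_iff.1 (P.ZC_fixed h z.2) g ((zpowers_le.2 hb) g.2))
  rw [hfix, hc] at hmod
  have hcop : Nat.Coprime p (Nat.card (ZC u B)) := by
    obtain ⟨i, hi⟩ := (P.CC_isPGroup.to_le (show ZC u B ≤ CC u B from inf_le_left)).exists_card_eq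
    rw [hi]; exact h.two_coprime.symm.pow_right i
  exact Nat.ModEq.cancel_left_of_coprime hcop (by rwa [mul_one])

/-- Abelian subgroups of a piece of given size. -/
theorem exists_abelian (P : IsPair p k u B) (h : Hyp G p k) : ∀ (i : ℕ) (W Z : Subgroup G),
    W ≤ CC u B → ZC u B ≤ Z → Z ≤ W → Z ≤ centralizer (W : Set G) →
    2 ^ (2 * i + 1) * Nat.card Z ≤ Nat.card W →
    ∃ A, Z ≤ A ∧ A ≤ W ∧ A ≤ centralizer (A : Set G) ∧ 2 ^ (i + 1) * Nat.card Z ≤ Nat.card A := by
  intro i
  induction i with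
  | zero =>
    intro W Z hWC hZc hZW hZ hcard
    have hne : ¬ W ≤ Z := fun hle => by
      have := card_le_of_le hle
      have := Nat.card_pos (α := Z)
      simp only [Nat.mul_zero, zero_add, pow_one] at hcard
      omega
    obtain ⟨x, hxW, hxZ⟩ := SetLike.not_le_iff_exists.1 hne
    refine ⟨Z ⊔ zpowers x, le_sup_left, sup_le hZW (zpowers_le.2 hxW), ?_,
      two_mul_card_le_of_lt (lt_of_le_of_ne le_sup_left fun e => hxZ (e ▸ mem_sup_right (mem_zpowers x)))⟩
    have hxc : x ∈ centralizer (Z : Set G) := (le_centralizer_iff.1 hZ) hxW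
    refine sup_le (fun z hz => mem_centralizer_sup ((hZ.trans (centralizer_le hZW)) hz)
      (mem_centralizer_zpowers (mem_centralizer_iff.1 hxc z hz))) (zpowers_le.2 ?_)
    exact mem_centralizer_sup hxc (mem_centralizer_zpowers rfl)
  | succ i ih =>
    intro W Z hWC hZc hZW hZ hcard
    have hne : ¬ W ≤ Z := fun hle => by
      have h1 := card_le_of_le hle
      have h2 := Nat.card_pos (α := Z)
      have h3 : 2 ≤ 2 ^ (2 * (i + 1) + 1) := Nat.le_self_pow (by omega) 2
      nlinarith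
    obtain ⟨x, hxW, hxZ⟩ := SetLike.not_le_iff_exists.1 hne
    have hxc : x ∈ centralizer (Z : Set G) := (le_centralizer_iff.1 hZ) hxW
    set W' := W ⊓ centralizer ({x} : Set G) with hW'
    set Z' := Z ⊔ zpowers x with hZ'
    have hcardW : Nat.card W ≤ 2 * Nat.card W' := by
      classical
      by_cases hall : ∀ w ∈ W, ⁅w, x⁆ = 1
      · have := card_le_of_le (show W ≤ W' from fun w hw =>
          ⟨hw, mem_centralizer_singleton_iff.2 (commutatorElement_eq_one_iff_mul_comm.1 (hall w hw))⟩)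
        omega
      push Not at hall
      obtain ⟨w0, hw0, hw0x⟩ := hall
      have hC := P.classTwo h
      have h1 : ∀ w ∈ W, ⁅w, x⁆ ≠ 1 → w * w0⁻¹ ∈ W' := fun w hw hwx => by
        refine ⟨W.mul_mem hw (W.inv_mem hw0), mem_centralizer_singleton_iff.2 (commutatorElement_eq_one_iff_mul_comm.1 ?_)⟩
        rw [hC.mul_left (hWC hw) (inv_mem (hWC hw0)) (hWC hxW), hC.inv_left (hWC hw0) (hWC hxW),
          (P.comm_mem h (hWC hw) (hWC hxW)).resolve_left hwx,
          (P.comm_mem h (hWC hw0) (hWC hxW)).resolve_left hw0x, mul_inv_cancel]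
      let f : W → W' × Bool := fun w => if hw : ⁅(w : G), x⁆ = 1 then
        (⟨w, w.2, mem_centralizer_singleton_iff.2 (commutatorElement_eq_one_iff_mul_comm.1 hw)⟩, false)
        else (⟨w * w0⁻¹, h1 w w.2 hw⟩, true)
      have hf : Function.Injective f := by
        intro a b hab
        simp only [f] at hab
        split_ifs at hab <;> simp only [Prod.mk.injEq, Subtype.mk.injEq, mul_left_inj, Bool.false_eq_true,
          Bool.true_eq_false, and_false, and_true] at hab
        · exact Subtype.ext (congrArg (fun w : W' => (w : G)) hab)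
        · exact Subtype.ext hab
      have := Nat.card_le_card_of_injective f hf
      rw [Nat.card_prod, Nat.card_eq_fintype_card (α := Bool), Fintype.card_bool] at this
      omega
    have hxn : zpowers x ≤ normalizer (Z : Set G) := (zpowers_le.2 hxc).trans (centralizer_le_normalizer _)
    have hcardZ : Nat.card Z' ≤ 2 * Nat.card Z := by
      have he := card_sup_mul_inf (A := Z) (B := zpowers x) hxn
      have h1 : orderOf x ∣ 2 * orderOf (x ^ 2) := orderOf_dvd_of_pow_eq_one (by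
        rw [pow_mul, pow_orderOf_eq_one])
      have h2 : orderOf (x ^ 2) ≤ Nat.card ↥(Z ⊓ zpowers x) := by
        rw [← Nat.card_zpowers]
        refine card_le_of_le (zpowers_le.2 ⟨hZc ?_, pow_mem (mem_zpowers x) 2⟩)
        rw [pow_two]; exact P.sq_mem_ZC h (hWC hxW)
      rw [Nat.card_zpowers] at he
      have h3 : orderOf x ≤ 2 * Nat.card ↥(Z ⊓ zpowers x) :=
        (Nat.le_of_dvd (Nat.mul_pos two_pos (orderOf_pos _)) h1).trans (Nat.mul_le_mul_left 2 h2)
      have h4 : 0 < Nat.card ↥(Z ⊓ zpowers x) := Nat.card_pos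
      refine Nat.le_of_mul_le_mul_right ?_ h4
      calc Nat.card Z' * Nat.card ↥(Z ⊓ zpowers x) = Nat.card Z * orderOf x := he
        _ ≤ Nat.card Z * (2 * Nat.card ↥(Z ⊓ zpowers x)) := Nat.mul_le_mul_left _ h3
        _ = 2 * Nat.card Z * Nat.card ↥(Z ⊓ zpowers x) := by ring
    have hZW' : Z' ≤ W' := sup_le (le_inf hZW fun z hz =>
        mem_centralizer_singleton_iff.2 (mem_centralizer_iff.1 hxc z hz))
      (zpowers_le.2 ⟨hxW, mem_centralizer_singleton_iff.2 rfl⟩)
    have hZ'c : Z' ≤ centralizer (W' : Set G) := sup_le (hZ.trans (centralizer_le inf_le_left))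
      (zpowers_le.2 (mem_centralizer_iff.2 fun w hw => mem_centralizer_singleton_iff.1 hw.2))
    have hexp : (2 : ℕ) ^ (2 * (i + 1) + 1) = 4 * 2 ^ (2 * i + 1) := by ring
    rw [hexp] at hcard
    obtain ⟨A, hA1, hA2, hA3, hA4⟩ := ih W' Z' (inf_le_left.trans hWC) (hZc.trans le_sup_left) hZW' hZ'c
      (by have := Nat.mul_le_mul_left (2 ^ (2 * i + 1)) hcardZ; linarith)
    refine ⟨A, le_sup_left.trans hA1, hA2.trans inf_le_left, hA3, ?_⟩
    have h5 : 2 * Nat.card Z ≤ Nat.card Z' :=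
      two_mul_card_le_of_lt (lt_of_le_of_ne le_sup_left fun e => hxZ (e ▸ mem_sup_right (mem_zpowers x)))
    rw [pow_succ, mul_assoc]
    exact (Nat.mul_le_mul_left _ h5).trans hA4

/-- Two commuting pieces cannot both contain big abelian subgroups. -/
theorem pair_bound (P : IsPair p k u B) (h : Hyp G p k) {H H' A A' : Subgroup G}
    (hH : IsGood p k u B H) (hH' : IsGood p k u B H') (hne : H ≠ H')
    (hA : A ≤ WW u B H) (hA' : A' ≤ WW u B H') (hZA : ZC u B ≤ A) (hZA' : ZC u B ≤ A')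
    (hAc : A ≤ centralizer (A : Set G)) (hA'c : A' ≤ centralizer (A' : Set G))
    (hbig : 16 * (Nat.card (ZC u B) * Nat.card (ZC u B)) ≤ Nat.card A * Nat.card A') : False := by
  have hcom : A' ≤ centralizer (A : Set G) :=
    ((hA'.trans (P.WW_commute h hH.le hH.card hH'.le hH'.card hne))).trans (centralizer_le hA)
  set M := A ⊔ A' with hM
  have hMc : M ≤ centralizer (M : Set G) := by
    refine sup_le (fun a ha => ?_) (fun a ha => ?_)
    · exact mem_centralizer_sup (hAc ha) (le_centralizer_iff.1 hcom ha)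
    · exact mem_centralizer_sup (hcom ha) (hA'c ha)
  have hinf : A ⊓ A' = ZC u B := le_antisymm
    ((inf_le_inf hA hA').trans (P.WW_inf_WW h hH.le hH.card hH'.le hH'.card hne).le) (le_inf hZA hZA')
  have hcardM := card_sup_mul_inf (A := A) (B := A') (hcom.trans (centralizer_le_normalizer _))
  rw [hinf] at hcardM
  have hM16 : 16 * Nat.card (ZC u B) ≤ Nat.card M := by
    refine Nat.le_of_mul_le_mul_right ?_ (Nat.card_pos (α := ZC u B))
    rw [mul_assoc, hcardM]; exact hbig
  have hMC : M ≤ CC u B := sup_le (hA.trans inf_le_left) (hA'.trans inf_le_left)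
  haveI : IsMulCommutative M := ⟨⟨fun x y => Subtype.ext (mem_centralizer_iff.1 (hMc y.2) x x.2)⟩⟩
  let f : M →* ZC u B :=
    { toFun := fun x => ⟨(x : G) * x, P.sq_mem_ZC h (hMC x.2)⟩
      map_one' := Subtype.ext (by simp)
      map_mul' := fun x y => Subtype.ext (by
        have e : (y : G) * x = x * y := mem_centralizer_iff.1 (hMc x.2) y y.2
        show (x : G) * y * (x * y) = (x : G) * x * (y * y)
        calc (x : G) * y * (x * y) = x * (y * x) * y := by group
          _ = _ := by rw [e]; group) }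
  obtain ⟨K, hK⟩ := exists_involutions M
  have hker : Nat.card f.ker ≤ Nat.card K := by
    refine Nat.card_le_card_of_injective (fun x => (⟨(x.1 : G), (hK _).2 ⟨x.1.2, hMc x.1.2,
      congrArg Subtype.val (MonoidHom.mem_ker.1 x.2)⟩⟩ : K)) fun a b e => ?_
    exact Subtype.ext (Subtype.ext (Subtype.mk.inj e))
  have hMK : Nat.card M ≤ Nat.card K * Nat.card (ZC u B) := by
    rw [← f.ker.card_mul_index, index_ker]
    exact Nat.mul_le_mul hker (card_le_card_group f.range)
  have hK16 : 16 ≤ Nat.card K :=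
    Nat.le_of_mul_le_mul_right (hM16.trans hMK) (Nat.card_pos (α := ZC u B))
  have hKM : K ≤ M := fun x hx => ((hK x).1 hx).1
  obtain ⟨m, hm⟩ := (P.CC_isPGroup.to_le (hKM.trans hMC)).exists_card_eq
  have hKel : Cfsg.IsElementaryAbelian 2 K :=
    ⟨⟨⟨fun x y => Subtype.ext (mem_centralizer_iff.1 ((hMc.trans (centralizer_le hKM)) (hKM y.2)) x x.2)⟩⟩,
      fun x hx => by rw [pow_two]; exact ((hK x).1 hx).2.2⟩
  have hMF : M ≤ centralizer ((H ⊓ H' : Subgroup G) : Set G) :=
    sup_le ((hA.trans inf_le_right).trans (centralizer_le inf_le_left))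
      ((hA'.trans inf_le_right).trans (centralizer_le inf_le_right))
  have hFc := P.card_inf h hH.le hH.card hH'.le hH'.card hne
  rw [hm, show (16 : ℕ) = 2 ^ 4 from rfl, Nat.pow_le_pow_iff_right one_lt_two] at hK16
  have := h.dihedral_bound (m := m) (by omega) hKel hm
    (PGroup.isElementaryAbelian_of_le P.elem (inf_le_left.trans hH.le)) hFc
    (ne_bot_of_card (by have := h.three_le; omega) hFc) (hKM.trans hMF)
  have := h.three_le
  omega

/-- The prime is three. -/
theorem eq_three (P : IsPair p k u B) (h : Hyp G p k) : p = 3 := by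
  by_contra hp3
  have hp5 : 5 ≤ p := by
    have := hp.out.two_le
    have := h.odd
    rcases Nat.lt_or_ge p 5 with hlt | hge
    · interval_cases p <;> simp_all (config := { decide := true })
    · exact hge
  obtain ⟨z, hz, hz1⟩ := B.bot_or_exists_ne_one.resolve_left
    (ne_bot_of_card (p := p) (by have := h.three_le; omega) P.card)
  obtain ⟨H, H', hH, hH', -, hne⟩ := P.exists_good_pair h hz hz1
  have key : ∀ H, IsGood p k u B H → ∃ A, ZC u B ≤ A ∧ A ≤ WW u B H ∧ A ≤ centralizer (A : Set G) ∧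
      4 * Nat.card (ZC u B) ≤ Nat.card A := by
    intro H hH
    obtain ⟨e, he, hc, hmod⟩ := P.card_WW h hH
    have he3 : 3 ≤ e := by
      by_contra hlt
      have h4 : (2 : ℕ) ^ e ≤ 4 := (Nat.pow_le_pow_right two_pos (by omega)).trans (le_refl (2 ^ 2))
      have h2 : 2 ≤ 2 ^ e := Nat.le_self_pow (by omega) 2
      have := Nat.ModEq.eq_of_lt_of_lt hmod (by omega) (by omega)
      omega
    refine P.exists_abelian h 1 _ _ inf_le_left le_rfl (P.ZC_le_WW h hH.le)
      ((inf_le_right).trans (centralizer_le inf_le_left)) ?_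
    rw [hc]
    exact Nat.mul_le_mul_right _ (Nat.pow_le_pow_right two_pos he3)
  obtain ⟨A, h1, h2, h3, h4⟩ := key H hH
  obtain ⟨A', h1', h2', h3', h4'⟩ := key H' hH'
  exact P.pair_bound h hH hH' hne h2 h2' h1 h1' h3 h3' (by nlinarith)

/-- An element of order nine over `B` cannot centralize the pair. -/
theorem not_root (P : IsPair p k u B) (h : Hyp G p k) {c : G} (hcu : c * u = u * c)
    (hcB : ∀ b ∈ B, c * b = b * c) (hc3 : c ^ p ∈ B) (hc1 : c ^ p ≠ 1) : False := by
  obtain rfl := P.eq_three h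
  obtain ⟨H, H', hH, hH', hyH, hne⟩ := P.exists_good_pair h hc3 hc1
  obtain ⟨e, he, hcard, hmod⟩ := P.card_WW h hH
  have hcu' : c ∈ centralizer ({u} : Set G) := mem_centralizer_singleton_iff.2 hcu
  have hcN : c ∈ normalizer (WW u B H : Set G) := by
    have hBn : c ∈ centralizer (B : Set G) := mem_centralizer_iff.2 fun b hb => (hcB b hb).symm
    refine Cfsg.Lib.Local.mem_normalizer_inf ?_ (le_normalizer (centralizer_le hH.le hBn))
    rw [mem_normalizer_iff_map_conj_eq, CC, map_commutator,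
      mem_normalizer_iff_map_conj_eq.1 (centralizer_le_normalizer_TT u hcu'),
      mem_normalizer_iff_map_conj_eq.1 (centralizer_le_normalizer (B : Set G) hBn)]
  have h9 := card_modEq_sq (q := 3) hcN (by rw [pow_mul]; exact P.elem.2 _ hc3)
  rw [P.WW_inf h hH.le hH.card hc3 hyH, hcard] at h9
  have hcop : Nat.Coprime (3 * 3) (Nat.card (ZC u B)) := by
    obtain ⟨i, hi⟩ := (P.CC_isPGroup.to_le (show ZC u B ≤ CC u B from inf_le_left)).exists_card_eq
    rw [hi]; exact (show Nat.Coprime (3 * 3) 2 by decide).pow_right i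
  have h91 : 2 ^ e ≡ 1 [MOD 3 * 3] := Nat.ModEq.cancel_left_of_coprime hcop (by rwa [mul_one, mul_comm (Nat.card _)])
  have he5 : 5 ≤ e := by
    by_contra hlt
    interval_cases e <;> exact absurd h91 (by decide)
  obtain ⟨A, hA1, hA2, hA3, hA4⟩ := P.exists_abelian h 2 (WW u B H) (ZC u B) inf_le_left le_rfl
    (P.ZC_le_WW h hH.le) (inf_le_right.trans (centralizer_le inf_le_left))
    (by rw [hcard]; exact Nat.mul_le_mul_right _ (Nat.pow_le_pow_right two_pos he5))
  obtain ⟨e', he', hcard', -⟩ := P.card_WW h hH'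
  obtain ⟨A', hA1', hA2', hA3', hA4'⟩ := P.exists_abelian h 0 (WW u B H') (ZC u B) inf_le_left le_rfl
    (P.ZC_le_WW h hH'.le) (inf_le_right.trans (centralizer_le inf_le_left))
    (by rw [hcard']; exact Nat.mul_le_mul_right _ (Nat.pow_le_pow_right two_pos he'))
  exact P.pair_bound h hH hH' hne hA2 hA2' hA1 hA1' hA3 hA3' (by norm_num at hA4 hA4'; nlinarith)

end IsPair

end Cfsg.Lib.Sig.KlingerMason
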